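import Mathlib
import Cfsg.Agent.Perm.AffCoord
import Cfsg.Agent.Perm.Basic
import Cfsg.Agent.GT.NilpCommutant
import Cfsg.Agent.Sym.Basic
import Cfsg.Agent.Sym.Orbits

/-! Pairs of `p`-elements of alternating groups generating insoluble subgroups. -/

set_option autoImplicit false

namespace Cfsg.Agent.Sym

open Subgroup Equiv Equiv.Perm MulAction

section Solv

variable {G X : Type*} [Group G] [MulAction G X] {t s : G} {p : ℕ}

theorem card_le_of_pow_smul_eq [Finite X] (htr : ∀ x y : X, ∃ k : ℕ, t ^ k • x = y) {x : X} {j : ℕ}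
    (hj : 0 < j) (h : t ^ j • x = x) : Nat.card X ≤ j := by
  have h1 : ∀ q, (t ^ j) ^ q • x = x := fun q => pow_mem (show t ^ j ∈ stabilizer G x from h) q
  have : Function.Surjective fun i : Fin j => t ^ (i : ℕ) • x := fun y => by
    obtain ⟨k, rfl⟩ := htr x y
    refine ⟨⟨k % j, Nat.mod_lt _ hj⟩, ?_⟩
    conv_rhs => rw [← Nat.mod_add_div k j, pow_add, pow_mul, mul_smul, h1]
  simpa using Nat.card_le_card_of_surjective _ this

theorem dvd_sub_of_isPreprimitive_aux [Finite G] [Group.IsSolvable G] [FaithfulSMul G X] [Finite X]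
    [Nontrivial X] (hprim : IsPreprimitive G X) (hp : p.Prime) (hp2 : p ≠ 2) {m l : ℕ}
    (ht : t ^ p ^ m = 1) (hs : s ^ p ^ l = 1) (htr : ∀ x y : X, ∃ k : ℕ, t ^ k • x = y)
    {x y : X} {i j : ℤ} (hx : s • x = t ^ i • x) (hy : s • y = t ^ j • y) : (p : ℤ) ∣ i - j := by
  obtain ⟨a, a', haa⟩ := exists_pair_ne X
  have hta : t • a ≠ a := fun h => by
    have := card_le_of_pow_smul_eq htr one_pos (x := a) (by simpa using h)
    have := Finite.one_lt_card (α := X)
    omega
  haveI : Nontrivial G := ⟨t, 1, fun h => hta (by simp [h])⟩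
  obtain ⟨r, _, V, _, _, e, ρ, h0, he, -⟩ := Perm.exists_affine_coord_of_isSolvable hprim a
  haveI : Finite V := Finite.of_equiv X e
  have hr : r.Prime := Fact.out
  have hcard : Nat.card X = r ^ Module.finrank (ZMod r) V := by
    rw [Nat.card_congr e, Module.natCard_eq_pow_finrank (K := ZMod r), Nat.card_zmod]
  have hd : Module.finrank (ZMod r) V ≠ 0 := fun h => by
    have := Finite.one_lt_card (α := X)
    rw [hcard, h] at this
    simp at this
  obtain rfl : r = p := by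
    haveI : IsPretransitive (zpowers t) X := ⟨fun x y => by
      obtain ⟨k, hk⟩ := htr x y
      exact ⟨⟨t ^ k, npow_mem_zpowers t k⟩, hk⟩⟩
    have h1 : Nat.card X ∣ p ^ m := by
      rw [← index_stabilizer_of_transitive (zpowers t) a]
      refine (index_dvd_card _).trans ?_
      rw [Nat.card_zpowers]
      exact orderOf_dvd_of_pow_eq_one ht
    rw [hcard] at h1
    exact (Nat.prime_dvd_prime_iff_eq hr hp).1 (hr.dvd_of_dvd_pow ((dvd_pow_self r hd).trans h1))
  have hnil : ∀ (g : G) (k : ℕ), g ^ r ^ k = 1 →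
      ((ρ g).toLinearMap - 1) ^ Module.finrank (ZMod r) V = 0 := by
    intro g k hg
    refine GT.pow_finrank_eq_zero ⟨r ^ k - 1 + 1, ?_⟩
    rw [pow_succ', ← GT.geom_sum_char_pow (K := ZMod r), mul_geom_sum, sub_eq_zero]
    have := congrArg (fun g => (LinearEquiv.automorphismGroup.toLinearMapMonoidHom.comp ρ) g) hg
    simp only [map_pow, map_one] at this
    exact this
  have hsum : ∀ k : ℕ, e (t ^ k • a) =
      (∑ i ∈ Finset.range k, (ρ t).toLinearMap ^ i) (e (t • a)) := by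
    intro k
    induction k with
    | zero => simpa using h0
    | succ k ih =>
      rw [pow_succ', mul_smul, he, ih, Finset.sum_range_succ', LinearMap.add_apply]
      simp only [pow_succ', ← Finset.mul_sum]
      rfl
  have hd1 : Module.finrank (ZMod r) V = 1 := by
    by_contra hne
    obtain ⟨d, hd2⟩ : ∃ d, Module.finrank (ZMod r) V = d + 2 :=
      ⟨Module.finrank (ZMod r) V - 2, by omega⟩
    have h3 : 3 ≤ r := by have := hr.two_le; omega
    have h4 : d + 2 < r ^ (d + 1) := by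
      have h5 : d < 3 ^ d := Nat.lt_pow_self (by norm_num)
      have h6 : 3 ^ (d + 1) ≤ r ^ (d + 1) := Nat.pow_le_pow_left h3 _
      omega
    have h5 := hsum (r ^ (d + 1))
    rw [GT.geom_sum_char_pow (K := ZMod r), pow_eq_zero_of_le (by omega) (hnil t m ht),
      LinearMap.zero_apply, ← h0, e.injective.eq_iff] at h5
    have := card_le_of_pow_smul_eq htr (pow_pos hr.pos _) h5
    rw [hcard, hd2] at this
    exact absurd (Nat.pow_le_pow_iff_right hr.one_lt |>.1 this) (by omega)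
  have htrans : ∀ (g : G) (k : ℕ), g ^ r ^ k = 1 → ∀ z, e (g • z) = e z + e (g • a) := by
    intro g k hg z
    have := hnil g k hg
    rw [hd1, pow_one, sub_eq_zero] at this
    rw [he]
    exact congrArg (· + _) (LinearMap.congr_fun this (e z))
  have hz : ∀ (k : ℤ) z, e (t ^ k • z) = e z + k • e (t • a) := by
    intro k
    induction k using Int.induction_on with
    | zero => simp
    | succ k ih => intro z; rw [zpow_add_one, mul_smul, ih, htrans t m ht, add_smul]; simp; abel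
    | pred k ih =>
      intro z
      have := htrans t m ht (t⁻¹ • z)
      rw [smul_inv_smul] at this
      rw [zpow_sub_one, mul_smul, ih, this, sub_smul]; simp
  have h1 := congrArg e hx
  have h2 := congrArg e hy
  rw [htrans s l hs, hz, add_right_inj] at h1 h2
  have h3 : ((i - j : ℤ) : ZMod r) • e (t • a) = 0 := by
    rw [Int.cast_smul_eq_zsmul, sub_smul, ← h1, ← h2, sub_self]
  rw [← ZMod.intCast_zmod_eq_zero_iff_dvd]
  exact (smul_eq_zero.1 h3).resolve_right fun h => hta (e.injective (h.trans h0.symm))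

/-- In a soluble group with a transitive cyclic `p`-subgroup, `p` odd, all `p`-elements act as
rotations on the quotient of size `p`. -/
theorem dvd_sub_of_isSolvable [Finite G] [Group.IsSolvable G] [Finite X] [Nontrivial X]
    (hp : p.Prime) (hp2 : p ≠ 2) {m l : ℕ} (ht : t ^ p ^ m = 1) (hs : s ^ p ^ l = 1)
    (htr : ∀ x y : X, ∃ k : ℕ, t ^ k • x = y) {x y : X} {i j : ℤ} (hx : s • x = t ^ i • x)
    (hy : s • y = t ^ j • y) : (p : ℤ) ∣ i - j := by
  obtain ⟨a, a', haa⟩ := exists_pair_ne X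
  obtain ⟨M, hM, hle⟩ := (eq_top_or_exists_le_coatom (stabilizer G a)).resolve_left fun h => by
    obtain ⟨k, hk⟩ := htr a a'
    exact haa ((show t ^ k ∈ stabilizer G a from h ▸ mem_top _).symm.trans hk)
  haveI : Nontrivial (G ⧸ M) := by
    rw [← Finite.one_lt_card_iff_nontrivial]
    exact one_lt_index_of_ne_top hM.1
  choose k hk using htr a
  let π : X → G ⧸ M := fun z => (t ^ k z : G)
  have hπ : ∀ (g : G) z, π (g • z) = g • π z := fun g z =>
    QuotientGroup.eq.2 (hle (show ((t ^ k (g • z))⁻¹ * (g * t ^ k z)) • a = a by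
      rw [mul_smul, mul_smul, hk, inv_smul_eq_iff, hk]))
  have hsurj : ∀ q : G ⧸ M, ∃ z, π z = q := fun q => by
    obtain ⟨g, hg⟩ := exists_smul_eq G (π a) q
    exact ⟨g • a, by rw [hπ, hg]⟩
  have hprim : IsPreprimitive G (G ⧸ M) :=
    (isCoatom_stabilizer_iff_preprimitive G ((1 : G) : G ⧸ M)).1 (by rwa [stabilizer_quotient])
  haveI : Group.IsSolvable (toPermHom G (G ⧸ M)).range :=
    Group.isSolvable_of_surjective (toPermHom G (G ⧸ M)).rangeRestrict_surjective
  refine dvd_sub_of_isPreprimitive_aux (G := (toPermHom G (G ⧸ M)).range) (X := G ⧸ M)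
    (t := (toPermHom G (G ⧸ M)).rangeRestrict t) (s := (toPermHom G (G ⧸ M)).rangeRestrict s)
    (Perm.isPreprimitive_range_iff.2 hprim) hp hp2 (m := m) (l := l)
    (by rw [← map_pow, ht, map_one]) (by rw [← map_pow, hs, map_one]) (fun q q' => ?_)
    (x := π x) (y := π y) ?_ ?_
  · obtain ⟨z, rfl⟩ := hsurj q
    obtain ⟨z', rfl⟩ := hsurj q'
    obtain ⟨n, hn⟩ : ∃ n : ℕ, t ^ n • z = z' := by
      have h1 : t ^ (p ^ m * k z) = 1 := by rw [pow_mul, ht, one_pow]
      have h2 : k z ≤ p ^ m * k z := Nat.le_mul_of_pos_left _ (pow_pos hp.pos _)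
      refine ⟨k z' + (p ^ m * k z - k z), ?_⟩
      conv_lhs => rw [← hk z, ← mul_smul, ← pow_add]
      rw [hk z, add_assoc, Nat.sub_add_cancel h2, pow_add, h1, mul_one, hk]
    exact ⟨n, by rw [← map_pow, ← hn, hπ]; rfl⟩
  · rw [← map_zpow]
    exact (hπ s x).symm.trans (hx ▸ hπ _ x)
  · rw [← map_zpow]
    exact (hπ s y).symm.trans (hy ▸ hπ _ y)

end Solv

/-- `u * s` is not a `p`-element and `⟨u, s⟩` is insoluble. -/
def PBad {G : Type*} [Group G] (p : ℕ) (u s : G) : Prop :=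
  (∀ k, (u * s) ^ p ^ k ≠ 1) ∧ ¬ Group.IsSolvable (closure ({u, s} : Set G))

theorem pBad_of_orders {G : Type*} [Group G] {p m : ℕ} {u s : G} (hm : m.Coprime p)
    (h : u ^ p = 1 ∧ s ^ p = 1 ∧ u * s ≠ 1 ∧ (u * s) ^ m = 1 ∧ (u * u * s) ^ m = 1) :
    PBad p u s := by
  obtain ⟨hu, hs, h1, h2, h3⟩ := h
  refine ⟨fun k hk => h1 ((pow_eq_one_iff_of_coprime (hm.pow_right k)).1 ⟨h2, hk⟩), fun hS => ?_⟩
  set H := closure ({u, s} : Set G)
  have mu : u ∈ H := subset_closure (by simp)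
  have ms : s ∈ H := subset_closure (by simp)
  haveI : Nontrivial H := ⟨⟨_, mul_mem mu ms⟩, 1, fun e => h1 (congrArg Subtype.val e)⟩
  refine (Group.IsSolvable.commutator_lt_top_of_nontrivial H).ne ?_
  set a := Abelianization.of (⟨u, mu⟩ : H) with ha
  set b := Abelianization.of (⟨s, ms⟩ : H) with hb
  have a1 : a ^ p = 1 := by
    rw [ha, ← map_pow, show (⟨u, mu⟩ : H) ^ p = 1 from Subtype.ext hu, map_one]
  have b1 : b ^ p = 1 := by
    rw [hb, ← map_pow, show (⟨s, ms⟩ : H) ^ p = 1 from Subtype.ext hs, map_one]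
  have c1 : a * b = 1 := (pow_eq_one_iff_of_coprime hm).1 ⟨by
    rw [ha, hb, ← map_mul, ← map_pow, show ((⟨u, mu⟩ : H) * ⟨s, ms⟩) ^ m = 1 from Subtype.ext h2,
      map_one], by rw [mul_pow, a1, b1, one_mul]⟩
  have c2 : a * a * b = 1 := (pow_eq_one_iff_of_coprime hm).1 ⟨by
    rw [ha, hb, ← map_mul, ← map_mul, ← map_pow,
      show ((⟨u, mu⟩ : H) * ⟨u, mu⟩ * ⟨s, ms⟩) ^ m = 1 from Subtype.ext h3, map_one],
    by rw [mul_pow, mul_pow, a1, b1, one_mul, one_mul]⟩
  rw [mul_assoc, c1, mul_one] at c2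
  rw [c2, one_mul] at c1
  have : H ≤ (commutator H).map H.subtype := by
    rw [closure_le]
    rintro _ (rfl | rfl)
    · exact ⟨⟨_, mu⟩, (QuotientGroup.eq_one_iff _).1 c2, rfl⟩
    · exact ⟨⟨_, ms⟩, (QuotientGroup.eq_one_iff _).1 c1, rfl⟩
  rw [eq_top_iff]
  intro g _
  obtain ⟨g', h, e⟩ := this g.2
  rwa [← show g' = g from Subtype.ext e]

variable {α β : Type*} [DecidableEq α] [Fintype α] [DecidableEq β] [Fintype β] {p : ℕ}

omit [DecidableEq α] [Fintype α] [DecidableEq β] [Fintype β] in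
theorem pow_apply_emb {ι : β ↪ α} {u : Perm α} {v : Perm β} (h : ∀ x, u (ι x) = ι (v x)) (k : ℕ)
    (x : β) : (u ^ k) (ι x) = ι ((v ^ k) x) := by
  induction k with
  | zero => rfl
  | succ k ih => rw [pow_succ', pow_succ', mul_apply, mul_apply, ih, h]

omit [DecidableEq α] [Fintype α] [DecidableEq β] [Fintype β] in
theorem pow_eq_one_of_emb {ι : β ↪ α} {u : Perm α} {v : Perm β} (h : ∀ x, u (ι x) = ι (v x))
    {k : ℕ} (hk : u ^ k = 1) : v ^ k = 1 :=
  Equiv.ext fun x => ι.injective (by rw [← pow_apply_emb h, hk]; rfl)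

omit [DecidableEq α] [Fintype α] [DecidableEq β] [Fintype β] in
theorem PBad.of_emb {ι : β ↪ α} {u s : Perm α} {v t : Perm β} (h : PBad p v t)
    (hu : ∀ x, u (ι x) = ι (v x)) (hs : ∀ x, s (ι x) = ι (t x)) : PBad p u s := by
  refine ⟨fun k hk => h.1 k (pow_eq_one_of_emb (ι := ι) (fun x => by simp [hu, hs]) hk),
    fun hS => h.2 ?_⟩
  have h1 : ∀ g ∈ closure ({u, s} : Set (Perm α)), ∃ g' ∈ closure ({v, t} : Set (Perm β)),
      ∀ x, g (ι x) = ι (g' x) := by
    intro g hg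
    induction hg using closure_induction with
    | mem g hg =>
      rcases hg with rfl | rfl
      · exact ⟨v, subset_closure (by simp), hu⟩
      · exact ⟨t, subset_closure (by simp), hs⟩
    | one => exact ⟨1, one_mem _, fun _ => rfl⟩
    | mul a b _ _ ha hb =>
      obtain ⟨a', a1, a2⟩ := ha
      obtain ⟨b', b1, b2⟩ := hb
      exact ⟨a' * b', mul_mem a1 b1, fun x => by simp [a2, b2]⟩
    | inv a _ ha =>
      obtain ⟨a', a1, a2⟩ := ha
      exact ⟨a'⁻¹, inv_mem a1, fun x => by rw [Perm.inv_eq_iff_eq, a2]; simp⟩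
  choose f f1 f2 using h1
  let φ : closure ({u, s} : Set (Perm α)) →* closure ({v, t} : Set (Perm β)) :=
    MonoidHom.mk' (fun g => ⟨f g g.2, f1 _ _⟩) fun a b => Subtype.ext (Equiv.ext fun x =>
      ι.injective (by simp [← f2]))
  refine Group.isSolvable_of_surjective (f := φ) ?_
  rw [← MonoidHom.range_eq_top, eq_top_iff]
  rintro ⟨g, hg⟩ -
  have : closure ({v, t} : Set (Perm β)) ≤ φ.range.map (Subgroup.subtype _) := by
    rw [closure_le]
    rintro _ (rfl | rfl)
    · exact ⟨_, ⟨⟨u, subset_closure (by simp)⟩, rfl⟩, Equiv.ext fun x => ι.injective (by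
        rw [← hu]; exact (f2 _ _ x).symm)⟩
    · exact ⟨_, ⟨⟨s, subset_closure (by simp)⟩, rfl⟩, Equiv.ext fun x => ι.injective (by
        rw [← hs]; exact (f2 _ _ x).symm)⟩
  obtain ⟨g', h, e⟩ := this hg
  rwa [← show g' = ⟨g, hg⟩ from Subtype.ext e]

/-- Bad conjugates exist under even and under odd permutations. -/
def PBadAll (p : ℕ) (u w : Perm α) : Prop :=
  ∀ ε : ℤˣ, ∃ g : Perm α, sign g = ε ∧ PBad p u (g * w * g⁻¹)

theorem PBadAll.of_emb {ι ι' : β ↪ α} {u w : Perm α} {v t : Perm β} (h : PBadAll p v t)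
    (hu : ∀ x, u (ι x) = ι (v x)) (hw : ∀ x, w (ι' x) = ι' (t x)) : PBadAll p u w := by
  intro ε
  obtain ⟨k, hk⟩ := exists_extending_pair ι' ι ι'.injective ι.injective
  obtain ⟨g, h1, h2⟩ := h (ε * sign k)
  refine ⟨g.viaEmbedding ι * k, ?_, h2.of_emb hu fun x => ?_⟩
  · rw [map_mul, sign_viaEmbedding, h1, mul_assoc, Int.units_mul_self, mul_one]
  · have : (g.viaEmbedding ι * k)⁻¹ (ι x) = ι' (g⁻¹ x) := by
      rw [Perm.inv_eq_iff_eq, mul_apply, hk, viaEmbedding_apply]; simp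
    rw [mul_apply, mul_apply, this, hw, mul_apply, hk, viaEmbedding_apply]; rfl

theorem PBadAll.of_isConj {u w v t : Perm α} (h : PBadAll p v t) (hu : IsConj v u)
    (hw : IsConj t w) : PBadAll p u w := by
  obtain ⟨a, rfl⟩ := isConj_iff.1 hu
  obtain ⟨b, rfl⟩ := isConj_iff.1 hw
  exact h.of_emb (ι := a.toEmbedding) (ι' := b.toEmbedding) (by simp) (by simp)

theorem PBadAll.symm {u w : Perm α} (h : PBadAll p u w) : PBadAll p w u := by
  intro ε
  obtain ⟨g, h1, h2⟩ := h ε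
  refine ⟨g⁻¹, by rwa [sign_inv], ?_⟩
  have h3 : PBad p (g * w * g⁻¹) u := ⟨fun k hk => h2.1 k (by
    have : u * (g * w * g⁻¹) = u * (g * w * g⁻¹ * u) * u⁻¹ := by group
    rw [this, conj_pow, hk]; simp), by rw [Set.pair_comm]; exact h2.2⟩
  exact h3.of_emb (ι := (g⁻¹).toEmbedding) (by simp) (by simp)

theorem pBadAll_of_two {u w : Perm α} (g h : Perm α) (hg : sign g = 1) (hh : sign h = -1)
    (h1 : PBad p u (g * w * g⁻¹)) (h2 : PBad p u (h * w * h⁻¹)) : PBadAll p u w := fun ε => by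
  rcases Int.units_eq_one_or ε with rfl | rfl
  exacts [⟨g, hg, h1⟩, ⟨h, hh, h2⟩]

theorem isConj_of_pow_prime (hp : p.Prime) {a b : Perm α} (ha : a ^ p = 1) (hb : b ^ p = 1)
    (h : a.support.card = b.support.card) : IsConj a b := by
  haveI : Fact p.Prime := ⟨hp⟩
  have h1 := cycleType_of_pow_prime_eq_one ha
  have h2 := cycleType_of_pow_prime_eq_one hb
  rw [← sum_cycleType, ← sum_cycleType, h1, h2, Multiset.sum_replicate, Multiset.sum_replicate,
    smul_eq_mul, smul_eq_mul] at h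
  rw [isConj_iff_cycleType_eq, h1, h2, Nat.eq_of_mul_eq_mul_right hp.pos h]

theorem exists_card_support_eq (hp : p.Prime) {a : Perm α} (ha : a ^ p = 1) (h1 : a ≠ 1) :
    ∃ k, a.support.card = (k + 1) * p ∧ (k + 1) * p ≤ Fintype.card α := by
  haveI : Fact p.Prime := ⟨hp⟩
  have h2 := sum_cycleType a
  rw [cycleType_of_pow_prime_eq_one ha, Multiset.sum_replicate, smul_eq_mul] at h2
  obtain ⟨k, hk⟩ := Nat.exists_eq_succ_of_ne_zero fun h => h1 (card_cycleType_eq_zero.1 h)
  rw [hk] at h2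
  exact ⟨k, h2.symm, h2.trans_le (Finset.card_le_univ _)⟩

theorem pBadAll_five_five {u w : Perm (Fin 5)} (hu : u ^ 5 = 1) (hw : w ^ 5 = 1) (h1 : u ≠ 1)
    (h2 : w ≠ 1) : PBadAll 5 u w := by
  let r : Perm (Fin 5) := swap 0 1 * swap 1 2 * swap 2 3 * swap 3 4
  have key : ∀ u : Perm (Fin 5), u ^ 5 = 1 → u ≠ 1 → IsConj r u := fun u hu h1 => by
    obtain ⟨k, e1, e2⟩ := exists_card_support_eq Nat.prime_five hu h1
    rw [Fintype.card_fin] at e2
    exact isConj_of_pow_prime Nat.prime_five (by decide +kernel) hu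
      ((show r.support.card = 5 by decide +kernel).trans (by omega))
  exact (pBadAll_of_two (swap 1 2 * swap 3 4) (swap 2 4) (by decide) (by decide)
    (pBad_of_orders (m := 6) (by norm_num) (by decide +kernel))
    (pBad_of_orders (m := 6) (by norm_num) (by decide +kernel))).of_isConj
    (key u hu h1) (key w hw h2)

theorem pBadAll_three_five {u w : Perm (Fin 5)} (hu : u ^ 3 = 1) (hw : w ^ 3 = 1) (h1 : u ≠ 1)
    (h2 : w ≠ 1) : PBadAll 3 u w := by
  let r : Perm (Fin 5) := swap 0 1 * swap 1 2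
  have key : ∀ u : Perm (Fin 5), u ^ 3 = 1 → u ≠ 1 → IsConj r u := fun u hu h1 => by
    obtain ⟨k, e1, e2⟩ := exists_card_support_eq Nat.prime_three hu h1
    rw [Fintype.card_fin] at e2
    exact isConj_of_pow_prime Nat.prime_three (by decide +kernel) hu
      ((show r.support.card = 3 by decide +kernel).trans (by omega))
  exact (pBadAll_of_two (swap 1 3 * swap 2 4) (swap 1 3 * swap 2 4 * swap 3 4) (by decide)
    (by decide) (pBad_of_orders (m := 20) (by norm_num) (by decide +kernel))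
    (pBad_of_orders (m := 20) (by norm_num) (by decide +kernel))).of_isConj
    (key u hu h1) (key w hw h2)

theorem pBadAll_three_six {u w : Perm (Fin 6)} (hu : u ^ 3 = 1) (hw : w ^ 3 = 1) (h1 : u ≠ 1)
    (h2 : w ≠ 1) : PBadAll 3 u w := by
  let r : Perm (Fin 6) := swap 0 1 * swap 1 2
  let r' : Perm (Fin 6) := swap 0 1 * swap 1 2 * swap 3 4 * swap 4 5
  have key : ∀ u : Perm (Fin 6), u ^ 3 = 1 → u ≠ 1 → IsConj r u ∨ IsConj r' u := fun u hu h1 => by
    obtain ⟨k, e1, e2⟩ := exists_card_support_eq Nat.prime_three hu h1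
    rw [Fintype.card_fin] at e2
    by_cases hk : k = 0
    · exact Or.inl (isConj_of_pow_prime Nat.prime_three (by decide +kernel) hu
        ((show r.support.card = 3 by decide +kernel).trans (by omega)))
    · exact Or.inr (isConj_of_pow_prime Nat.prime_three (by decide +kernel) hu
        ((show r'.support.card = 6 by decide +kernel).trans (by omega)))
  rcases key u hu h1 with a | a <;> rcases key w hw h2 with b | b
  · exact (pBadAll_of_two (swap 1 3 * swap 2 4) (swap 1 3 * swap 2 4 * swap 4 5) (by decide)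
      (by decide) (pBad_of_orders (m := 20) (by norm_num) (by decide +kernel))
      (pBad_of_orders (m := 20) (by norm_num) (by decide +kernel))).of_isConj a b
  · exact (pBadAll_of_two (swap 2 3 * swap 4 5) (swap 2 3) (by decide)
      (by decide) (pBad_of_orders (m := 20) (by norm_num) (by decide +kernel))
      (pBad_of_orders (m := 20) (by norm_num) (by decide +kernel))).of_isConj a b
  · exact (pBadAll_of_two (swap 2 3 * swap 4 5) (swap 2 3) (by decide)
      (by decide) (pBad_of_orders (m := 20) (by norm_num) (by decide +kernel))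
      (pBad_of_orders (m := 20) (by norm_num) (by decide +kernel))).of_isConj a b
  · exact (pBadAll_of_two (swap 2 3 * swap 4 5) (swap 1 3 * swap 2 4 * swap 4 5) (by decide)
      (by decide) (pBad_of_orders (m := 20) (by norm_num) (by decide +kernel))
      (pBad_of_orders (m := 20) (by norm_num) (by decide +kernel))).of_isConj a b

theorem exists_sign_extending {γ : Type*} [Fintype γ] (f g : γ → α) (hf : Function.Injective f)
    (hg : Function.Injective g) (h : Fintype.card γ + 2 ≤ Fintype.card α) (ε : ℤˣ) :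
    ∃ σ : Perm α, sign σ = ε ∧ ∀ a, σ (f a) = g a := by
  obtain ⟨σ, hσ⟩ := exists_extending_pair f g hf hg
  by_cases hε : sign σ = ε
  · exact ⟨σ, hε, hσ⟩
  obtain ⟨a, b, ha, hb, hab⟩ := Finset.one_lt_card_iff.1 (show 1 < (Finset.univ.image f)ᶜ.card by
    rw [Finset.card_compl, Finset.card_image_of_injective _ hf, Finset.card_univ]; omega)
  simp only [Finset.mem_compl, Finset.mem_image, Finset.mem_univ, true_and, not_exists] at ha hb
  refine ⟨σ * swap a b, ?_, fun c => by rw [mul_apply, swap_apply_of_ne_of_ne (ha c) (hb c), hσ]⟩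
  rw [map_mul, sign_swap hab]
  revert hε
  generalize sign σ = δ
  revert δ ε
  decide

omit [DecidableEq α] in
theorem pBad_of_arrows (hp : p.Prime) (hp2 : p ≠ 2) {t s : Perm α} {m : ℕ} (ht : t ^ p ^ m = 1)
    (hs : s ^ p ^ m = 1) (htr : ∀ x y, ∃ k : ℕ, (t ^ k) x = y) {x : α} {i : ℤ}
    (hi : ¬ (p : ℤ) ∣ 2 * i) (h3 : (t ^ i) x ≠ x) (hx : s x = (t ^ (i - 1)) x)
    (hy : s ((t ^ i) x) = t⁻¹ x) : PBad p t s := by
  have h1 : (t * s) x = (t ^ i) x := by rw [mul_apply, hx, ← mul_apply, mul_self_zpow]; simp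
  have h2 : (t * s) ((t ^ i) x) = x := by simp [hy]
  refine ⟨fun k hk => h3 ?_, fun hS => hi ?_⟩
  · obtain ⟨q, hq⟩ := (hp.odd_of_ne_two hp2).pow (n := k)
    have h4 : ∀ q, ((t * s) ^ (2 * q)) x = x := by
      intro q
      induction q with
      | zero => rfl
      | succ q ih => rw [mul_add, pow_add, mul_apply, mul_one, pow_two, mul_apply, h1, h2, ih]
    have := congrArg (· x) hk
    simp only [hq, pow_succ', mul_apply, h4, one_apply] at this
    rw [← h1, mul_apply, this]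
  · haveI : Nontrivial α := ⟨_, _, h3⟩
    have := dvd_sub_of_isSolvable (G := closure ({t, s} : Set (Perm α))) (X := α)
      (t := ⟨t, subset_closure (by simp)⟩) (s := ⟨s, subset_closure (by simp)⟩) hp hp2
      (m := m) (l := m) (Subtype.ext ht) (Subtype.ext hs) htr (x := x) (y := (t ^ i) x)
      (i := i - 1) (j := -1 - i) hx (by
        change s _ = (t ^ (-1 - i)) _
        rw [hy, ← mul_apply, ← zpow_add]; simp)
    rwa [show i - 1 - (-1 - i) = 2 * i by ring] at this

theorem pBadAll_of_cycle (hp : p.Prime) (hp2 : p ≠ 2) (h6 : 6 ≤ Fintype.card α) {t w : Perm α}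
    {m : ℕ} (ht : t ^ p ^ m = 1) (hw : w ^ p ^ m = 1) (htr : ∀ x y, ∃ k : ℕ, (t ^ k) x = y)
    (h1 : w ≠ 1) : PBadAll p t w := by
  intro ε
  obtain ⟨c, hc⟩ : ∃ c, w c ≠ c := by
    by_contra! h
    exact h1 (Equiv.ext h)
  have hd : ∀ i j : ℤ, i < j → j ≤ i + 5 → (t ^ i) c ≠ (t ^ j) c := fun i j h1 h2 h => by
    obtain ⟨k, rfl⟩ : ∃ k : ℕ, j = k + i := ⟨(j - i).toNat, by omega⟩
    rw [zpow_add, mul_apply, zpow_natCast] at h
    have := card_le_of_pow_smul_eq (G := Perm α) htr (j := k) (by omega) h.symm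
    rw [Nat.card_eq_fintype_card] at this
    omega
  have hpw : ∀ g : Perm α, (g * w * g⁻¹) ^ p ^ m = 1 := fun g => by rw [conj_pow, hw]; simp
  have hp4 : ¬ (p : ℤ) ∣ 2 * 2 := fun h => hp2 ((Nat.prime_dvd_prime_iff_eq hp Nat.prime_two).1
    (hp.dvd_of_dvd_pow (n := 2) (by exact_mod_cast h)))
  by_cases hf : ∃ f, w f = f
  · obtain ⟨f, hf⟩ := hf
    have a1 : c ≠ f := fun h => hc (h ▸ hf)
    have a2 : w c ≠ f := fun h => a1 (w.injective (h.trans hf.symm))
    have b1 := hd (-2) (-1) (by omega) (by omega)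
    have b2 := hd (-2) 0 (by omega) (by omega)
    have b3 := hd (-1) 0 (by omega) (by omega)
    obtain ⟨g, g1, g2⟩ := exists_sign_extending ![c, w c, f]
      ![(t ^ (0 : ℤ)) c, (t ^ (-2 : ℤ)) c, (t ^ (-1 : ℤ)) c]
      (by intro i j; fin_cases i <;> fin_cases j <;> simp <;> grind)
      (by intro i j; fin_cases i <;> fin_cases j <;> simp only [Fin.reduceFinMk, Matrix.cons_val] <;>
        grind) (by simp; omega) ε
    have e0 : g c = c := g2 0
    have e1 : g (w c) = (t ^ (-2 : ℤ)) c := g2 1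
    have e2 : g f = (t ^ (-1 : ℤ)) c := g2 2
    refine ⟨g, g1, pBad_of_arrows hp hp2 ht (hpw g) htr (x := c) (i := -1)
      (fun h => hp4 (h.trans ⟨-2, by norm_num⟩)) b3 ?_ ?_⟩
    · conv_lhs => rw [← e0]
      simpa using e1
    · rw [← e2]
      simpa [hf] using e2
  · push Not at hf
    obtain ⟨d, hd'⟩ := exists_not_mem_of_card_lt (s := {c, w c, w⁻¹ c})
      (Finset.card_le_three.trans_lt (by omega))
    simp only [Finset.mem_insert, Finset.mem_singleton, not_or] at hd'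
    have a1 : w d ≠ c := fun h => hd'.2.2 (by rw [← h]; simp)
    have a2 : w d ≠ w c := fun h => hd'.1 (w.injective h)
    have a3 := hf d
    have b1 := hd (-1) 0 (by omega) (by omega)
    have b2 := hd (-1) 1 (by omega) (by omega)
    have b3 := hd (-1) 2 (by omega) (by omega)
    have b4 := hd 0 1 (by omega) (by omega)
    have b5 := hd 0 2 (by omega) (by omega)
    have b6 := hd 1 2 (by omega) (by omega)
    obtain ⟨g, g1, g2⟩ := exists_sign_extending ![c, w c, d, w d]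
      ![(t ^ (0 : ℤ)) c, (t ^ (1 : ℤ)) c, (t ^ (2 : ℤ)) c, (t ^ (-1 : ℤ)) c]
      (by intro i j; fin_cases i <;> fin_cases j <;> simp <;> grind)
      (by intro i j; fin_cases i <;> fin_cases j <;> simp only [Fin.reduceFinMk, Matrix.cons_val] <;>
        grind) (by simp; omega) ε
    have e0 : g c = c := g2 0
    have e1 : g (w c) = (t ^ (1 : ℤ)) c := g2 1
    have e2 : g d = (t ^ (2 : ℤ)) c := g2 2
    have e3 : g (w d) = (t ^ (-1 : ℤ)) c := g2 3
    refine ⟨g, g1, pBad_of_arrows hp hp2 ht (hpw g) htr (x := c) (i := 2) hp4 b5.symm ?_ ?_⟩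
    · conv_lhs => rw [← e0]
      simpa using e1
    · rw [← e2]
      simpa using e3

/-! ### Invariant subsets -/

theorem exists_cycle_finset (hp : p.Prime) {w : Perm α} {c : α} {j : ℕ}
    (h1 : (w ^ p ^ (j + 1)) c = c) (h2 : (w ^ p ^ j) c ≠ c) :
    ∃ O : Finset α, O.card = p ^ (j + 1) ∧ w c ≠ c ∧ ∀ x, x ∈ O ↔ w.SameCycle c x := by
  haveI : Fact p.Prime := ⟨hp⟩
  have hc : w c ≠ c := fun h => h2 (pow_apply_eq_self_of_apply_eq_self h _)
  have hcy := isCycle_cycleOf w hc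
  have hc' : w.cycleOf c c ≠ c := by rwa [cycleOf_apply_self]
  refine ⟨(w.cycleOf c).support, ?_, hc, fun x => by
    rw [mem_support_cycleOf_iff, and_iff_left (mem_support.2 hc)]⟩
  rw [← hcy.orderOf]
  refine orderOf_eq_prime_pow ?_ ?_
  · rwa [hcy.pow_eq_one_iff' hc', cycleOf_pow_apply_self]
  · rwa [hcy.pow_eq_one_iff' hc', cycleOf_pow_apply_self]

theorem exists_invariant_subset (hp : p.Prime) (w : Perm α) (j : ℕ) :
    ∀ (k : ℕ) (T : Finset α), (∀ x, w x ∈ T ↔ x ∈ T) → (∀ x ∈ T, (w ^ p ^ j) x = x) →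
      k * p ^ j ≤ T.card → ∃ S ⊆ T, (∀ x, w x ∈ S ↔ x ∈ S) ∧ S.card = k * p ^ j := by
  induction j with
  | zero =>
    intro k T h1 h2 h3
    obtain ⟨S, hS, hc⟩ := Finset.exists_subset_card_eq h3
    simp only [pow_zero, pow_one] at h2
    refine ⟨S, hS, fun x => ⟨fun h => ?_, fun h => by rwa [h2 x (hS h)]⟩, hc⟩
    rwa [h2 x ((h1 x).1 (hS h))] at h
  | succ j ih =>
    intro k
    induction k with
    | zero => exact fun T _ _ _ => ⟨∅, by simp⟩
    | succ k ihk =>
      intro T h1 h2 h3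
      by_cases h : ∀ x ∈ T, (w ^ p ^ j) x = x
      · rw [pow_succ', ← mul_assoc] at h3 ⊢
        exact ih _ T h1 h h3
      push Not at h
      obtain ⟨c, hc, h⟩ := h
      obtain ⟨O, o1, -, o2⟩ := exists_cycle_finset hp (h2 c hc) h
      have hO : O ⊆ T := fun x hx => by
        obtain ⟨i, rfl⟩ := ((o2 x).1 hx).exists_nat_pow_eq
        clear hx
        induction i with
        | zero => exact hc
        | succ i ihi => rwa [pow_succ', mul_apply, h1]
      have hO' : ∀ x, w x ∈ O ↔ x ∈ O := fun x => by simp [o2]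
      obtain ⟨S, s1, s2, s3⟩ := ihk (T \ O) (fun x => by simp [h1, hO'])
        (fun x hx => h2 x (Finset.mem_sdiff.1 hx).1)
        (by rw [Finset.card_sdiff_of_subset hO, o1]; rw [add_mul] at h3; omega)
      refine ⟨S ∪ O, Finset.union_subset (s1.trans Finset.sdiff_subset) hO,
        fun x => by simp [s2, hO'], ?_⟩
      rw [Finset.card_union_of_disjoint (Finset.disjoint_of_subset_left s1 Finset.sdiff_disjoint),
        s3, o1, add_mul, one_mul]

theorem exists_of_orderOf_eq {w : Perm α} {j : ℕ} (hp : p.Prime) (h : orderOf w = p ^ (j + 1)) :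
    ∃ c, (w ^ p ^ j) c ≠ c := by
  by_contra! hc
  have := orderOf_dvd_of_pow_eq_one (show w ^ p ^ j = 1 from Equiv.ext hc)
  rw [h, Nat.pow_dvd_pow_iff_le_right hp.one_lt] at this
  omega

omit [DecidableEq α] in
theorem exists_restrict {w : Perm α} {S : Finset α} (hS : ∀ x, w x ∈ S ↔ x ∈ S) {m : ℕ}
    (hm : S.card = m) : ∃ (ι : Fin m ↪ α) (v : Perm (Fin m)), (∀ x, w (ι x) = ι (v x)) ∧
      ∀ y, y ∈ S ↔ y ∈ Set.range ι := by
  let e := (Finset.equivFinOfCardEq hm).symm
  refine ⟨e.toEmbedding.trans (Function.Embedding.subtype _), e.symm.permCongr (w.subtypePerm hS),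
    fun x => by simp, fun y => ⟨fun h => ⟨e.symm ⟨y, h⟩, by simp⟩, ?_⟩⟩
  rintro ⟨x, rfl⟩
  exact (e x).2

theorem exists_restrict_ne_one (hp : p.Prime) {w : Perm α} {j k : ℕ} (h : orderOf w = p ^ (j + 1))
    (hk : (k + 1) * p ^ (j + 1) ≤ Fintype.card α) :
    ∃ (ι : Fin ((k + 1) * p ^ (j + 1)) ↪ α) (v : Perm (Fin ((k + 1) * p ^ (j + 1)))),
      (∀ x, w (ι x) = ι (v x)) ∧ v ≠ 1 := by
  obtain ⟨c, hc⟩ := exists_of_orderOf_eq hp h
  have h1 : w ^ p ^ (j + 1) = 1 := h ▸ pow_orderOf_eq_one w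
  obtain ⟨O, o1, o3, o2⟩ := exists_cycle_finset hp (by rw [h1]; rfl) hc
  have hO' : ∀ x, w x ∈ O ↔ x ∈ O := fun x => by simp [o2]
  obtain ⟨S, s1, s2, s3⟩ := exists_invariant_subset hp w (j + 1) k Oᶜ (fun x => by simp [hO'])
    (fun x _ => by rw [h1]; rfl) (by rw [Finset.card_compl, o1]; rw [add_mul] at hk; omega)
  obtain ⟨ι, v, e1, e2⟩ := exists_restrict (w := w) (S := S ∪ O) (fun x => by simp [s2, hO'])
    (m := (k + 1) * p ^ (j + 1)) (by
      rw [Finset.card_union_of_disjoint (Finset.disjoint_of_subset_left s1 disjoint_compl_left),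
        s3, o1, add_mul, one_mul])
  obtain ⟨x, rfl⟩ := (e2 c).1 (Finset.mem_union_right _ ((o2 c).2 (SameCycle.refl _ _)))
  exact ⟨ι, v, e1, fun e => o3 (by rw [e1, e]; rfl)⟩

theorem pBadAll_of_le (hp : p.Prime) (hp2 : p ≠ 2) (h5 : 5 ≤ Fintype.card α) {u w : Perm α}
    {i j : ℕ} (hu : orderOf u = p ^ (i + 1)) (hw : orderOf w = p ^ (j + 1)) (hij : j ≤ i) :
    PBadAll p u w := by
  have u1 : u ^ p ^ (i + 1) = 1 := hu ▸ pow_orderOf_eq_one u
  have w1 : w ^ p ^ (i + 1) = 1 := orderOf_dvd_iff_pow_eq_one.1 (hw ▸ pow_dvd_pow p (by omega))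
  by_cases h3 : p = 3 ∧ i = 0
  · obtain ⟨rfl, rfl⟩ := h3
    obtain rfl : j = 0 := by omega
    rcases h5.eq_or_lt with h5 | h5
    · obtain ⟨ι, a, a1, a2⟩ := exists_restrict (w := u) (S := Finset.univ) (by simp) h5.symm
      obtain ⟨ι', b, b1, b2⟩ := exists_restrict (w := w) (S := Finset.univ) (by simp) h5.symm
      have key : ∀ {ι : Fin 5 ↪ α} {u : Perm α} {a : Perm (Fin 5)}, orderOf u = 3 ^ (0 + 1) →
          (∀ x, u (ι x) = ι (a x)) → (∀ y, y ∈ Finset.univ ↔ y ∈ Set.range ι) → a ≠ 1 := by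
        intro ι u a h1 h2 h3 h4
        obtain ⟨c, hc⟩ := exists_of_orderOf_eq hp h1
        obtain ⟨x, rfl⟩ := (h3 c).1 (Finset.mem_univ _)
        exact hc (by simp [h2, h4])
      exact (pBadAll_three_five (pow_eq_one_of_emb a1 u1) (pow_eq_one_of_emb b1 w1)
        (key hu a1 a2) (key hw b1 b2)).of_emb a1 b1
    · obtain ⟨ι, a, a1, a2⟩ := exists_restrict_ne_one hp (k := 1) hu h5
      obtain ⟨ι', b, b1, b2⟩ := exists_restrict_ne_one hp (k := 1) hw h5
      exact (pBadAll_three_six (pow_eq_one_of_emb a1 u1) (pow_eq_one_of_emb b1 w1) a2 b2).of_emb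
        a1 b1
  obtain ⟨c, hc⟩ := exists_of_orderOf_eq hp hu
  obtain ⟨O, o1, o3, o2⟩ := exists_cycle_finset hp (by rw [u1]; rfl) hc
  obtain ⟨k, hk⟩ : ∃ k, p ^ (i + 1) = (k + 1) * p ^ (j + 1) := ⟨p ^ (i - j) - 1, by
    rw [Nat.sub_add_cancel (Nat.one_le_pow _ _ hp.pos), ← pow_add]; congr 1; omega⟩
  obtain ⟨ι, a, a1, a2⟩ := exists_restrict (w := u) (S := O) (fun x => by simp [o2]) (o1.trans hk)
  obtain ⟨ι', b, b1, b2⟩ := exists_restrict_ne_one hp (k := k) hw
    (hk ▸ o1 ▸ Finset.card_le_univ O)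
  refine PBadAll.of_emb ?_ a1 b1
  have a3 := pow_eq_one_of_emb a1 u1
  have b3 := pow_eq_one_of_emb b1 w1
  have a4 : a ≠ 1 := fun e => by
    obtain ⟨x, rfl⟩ := (a2 c).1 ((o2 c).2 (SameCycle.refl _ _))
    exact o3 (by rw [a1, e]; rfl)
  have htr : ∀ x y, ∃ k : ℕ, (a ^ k) x = y := fun x y => by
    obtain ⟨n, hn⟩ := (((o2 _).1 ((a2 _).2 ⟨x, rfl⟩)).symm.trans
      ((o2 _).1 ((a2 _).2 ⟨y, rfl⟩))).exists_nat_pow_eq
    exact ⟨n, ι.injective (by rw [← pow_apply_emb a1, hn])⟩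
  by_cases h5' : p = 5 ∧ i = 0
  · obtain ⟨rfl, rfl⟩ := h5'
    obtain rfl : j = 0 := by omega
    obtain rfl : k = 0 := by omega
    exact pBadAll_five_five a3 b3 a4 b2
  refine pBadAll_of_cycle hp hp2 ?_ a3 b3 htr b2
  rw [Fintype.card_fin, ← hk]
  have h2 := hp.two_le
  rcases Nat.eq_zero_or_pos i with rfl | hi
  · have : p ≠ 4 := fun h => by rw [h] at hp; norm_num at hp
    simp only [and_true] at h3 h5'
    rw [zero_add, pow_one]
    omega
  · calc 6 ≤ 3 ^ 2 := by norm_num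
      _ ≤ p ^ 2 := Nat.pow_le_pow_left (by omega) _
      _ ≤ _ := Nat.pow_le_pow_right hp.pos (by omega)

theorem pBadAll_of_orderOf (hp : p.Prime) (hp2 : p ≠ 2) (h5 : 5 ≤ Fintype.card α) {u w : Perm α}
    {i j : ℕ} (hu : orderOf u = p ^ (i + 1)) (hw : orderOf w = p ^ (j + 1)) : PBadAll p u w := by
  rcases le_total j i with h | h
  · exact pBadAll_of_le hp hp2 h5 hu hw h
  · exact (pBadAll_of_le hp hp2 h5 hw hu h).symm

end Cfsg.Agent.Sym
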