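import Mathlib

/-!
# Arithmetic for the Hall subgroups of symmetric groups

`eq_of_choose_primes`: if `1 ≤ a ≤ b` and every prime divisor of `(a + b).choose a` exceeds `b`,
then `a = 1` or `(a, b) = (3, 4)`.
-/

set_option autoImplicit false

namespace Cfsg.Agent.Sym

open Nat Finset

theorem coprime_of_not_prime {b c m : ℕ} (h : ∀ p, p.Prime → p ∣ c → b < p) (hm : ¬ m.Prime)
    (hm0 : m ≠ 0) (hle : m ≤ 2 * b + 1) : m.Coprime c :=
  Nat.coprime_of_dvd fun p hp ⟨d, hd⟩ hc => by
    have h1 := h p hp hc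
    have h2 : 2 ≤ d := by
      rcases d with _ | _ | d
      · simp at hd; omega
      · rw [hd] at hm; simp at hm; exact absurd hp hm
      · omega
    nlinarith

theorem ascFactorial_split (u t : ℕ) : (2 * u + 1).ascFactorial (2 * t + 1) =
    (∏ i ∈ range (t + 1), (2 * u + 1 + 2 * i)) * (2 ^ t * (u + 1).ascFactorial t) := by
  induction t with
  | zero => simp [ascFactorial]
  | succ t ih =>
    rw [show 2 * (t + 1) + 1 = (2 * t + 1 + 1).succ from rfl, ascFactorial_succ,
      show 2 * t + 1 + 1 = (2 * t + 1).succ from rfl, ascFactorial_succ, ih, prod_range_succ _ (t + 1),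
      show t + 1 = t.succ from rfl, ascFactorial_succ]
    simp only [succ_eq_add_one]
    ring

theorem odd_dvd_prod {c k : ℕ} (u : ℕ) (hc : Odd c) (h : c ∣ k !) :
    c ∣ ∏ i ∈ range k, (2 * u + 1 + 2 * i) := by
  obtain ⟨d, hd⟩ := hc
  rw [← ZMod.natCast_eq_zero_iff, Nat.cast_prod]
  have h1 : ∀ i ∈ range k, ((2 * u + 1 + 2 * i : ℕ) : ZMod c) = 2 * ((u + d + 1 + i : ℕ) : ZMod c) :=
    fun i _ => by
      have h2 : ((2 * d + 1 : ℕ) : ZMod c) = 0 := by rw [← hd, ZMod.natCast_self]
      push_cast at h2 ⊢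
      linear_combination (-1 : ZMod c) * h2
  rw [prod_congr rfl h1, prod_mul_distrib, ← Nat.cast_prod, ← ascFactorial_eq_prod_range,
    (ZMod.natCast_eq_zero_iff _ _).2 (h.trans (factorial_dvd_ascFactorial _ _)), mul_zero]

theorem ascFactorial_lt {u v t : ℕ} (ht : t ≠ 0) (hu : 0 < u) (h : u < v) :
    u.ascFactorial t < v.ascFactorial t := by
  rw [ascFactorial_eq_prod_range, ascFactorial_eq_prod_range]
  exact prod_lt_prod_of_nonempty (fun i _ => by omega) (fun i _ => by omega)
    (nonempty_range_iff.2 ht)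

theorem eq_of_choose_primes {a b : ℕ} (ha : 1 ≤ a) (hab : a ≤ b)
    (h : ∀ p, p.Prime → p ∣ (a + b).choose a → b < p) : a = 1 ∨ (a = 3 ∧ b = 4) := by
  by_contra hcon
  rw [not_or] at hcon
  have ha2 : 2 ≤ a := by omega
  have hs : (a + b).choose b = (a + b).choose a := by
    rw [add_comm a b]; exact choose_symm_add
  have hb1 : (b + 1).Prime := by
    by_contra hp
    have h1 := choose_succ_right_eq (a + b) b
    rw [hs, show a + b - b = a by omega] at h1
    have h2 := (coprime_of_not_prime h hp (by omega) (by omega)).dvd_of_dvd_mul_left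
      (h1 ▸ Dvd.intro_left _ rfl)
    have := le_of_dvd (by omega) h2
    omega
  have hn : (a + b).Prime := by
    by_contra hp
    obtain ⟨a', rfl⟩ : ∃ a', a = a' + 1 := ⟨a - 1, by omega⟩
    have h1 := add_one_mul_choose_eq (a' + b) a'
    rw [show a' + b + 1 = a' + 1 + b by omega] at h1
    have h2 := (coprime_of_not_prime h hp (by omega) (by omega)).dvd_of_dvd_mul_left
      (h1 ▸ Dvd.intro _ rfl)
    have := le_of_dvd (by omega) h2
    omega
  obtain ⟨u, rfl⟩ : ∃ u, b = 2 * u := by
    obtain ⟨u, hu⟩ := hb1.odd_of_ne_two (by omega)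
    exact ⟨u, by omega⟩
  obtain ⟨t, rfl⟩ : ∃ t, a = 2 * t + 1 := by
    obtain ⟨t, ht⟩ := hn.odd_of_ne_two (by omega)
    exact ⟨t - u, by omega⟩
  have hb2 : 2 * u + 2 ∣ (2 * t + 1) * (2 * t) := by
    have h1 := choose_succ_right_eq (2 * t + 1 + 2 * u) (2 * u)
    have h2 := choose_succ_right_eq (2 * t + 1 + 2 * u) (2 * u + 1)
    rw [hs, show 2 * t + 1 + 2 * u - 2 * u = 2 * t + 1 by omega] at h1
    rw [show 2 * t + 1 + 2 * u - (2 * u + 1) = 2 * t by omega] at h2
    refine (coprime_of_not_prime h (m := 2 * u + 2) (fun hp => ?_) (by omega)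
      (by omega)).dvd_of_dvd_mul_left ⟨(2 * t + 1 + 2 * u).choose (2 * u + 1 + 1) * (2 * u + 1), ?_⟩
    · have := hp.eq_one_or_self_of_dvd 2 ⟨u + 1, by ring⟩
      omega
    · rw [← mul_assoc, ← h1, mul_right_comm, ← h2]
      ring
  have hu : u ≤ t + 1 := by
    have h1 := ascFactorial_eq_factorial_mul_choose (2 * u) (2 * t + 1)
    rw [ascFactorial_split, add_comm (2 * u) (2 * t + 1)] at h1
    set C := (2 * t + 1 + 2 * u).choose (2 * t + 1)
    set O := ∏ i ∈ range (t + 1), (2 * u + 1 + 2 * i)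
    have hC : C.Coprime (2 ^ t * (u + 1).ascFactorial t) := Nat.coprime_of_dvd fun p hp hc hd => by
      have h2 := h p hp hc
      rcases (hp.dvd_mul).1 hd with h3 | h3
      · have := le_of_dvd two_pos (hp.dvd_of_dvd_pow h3)
        omega
      · rw [ascFactorial_eq_prod_range] at h3
        obtain ⟨i, hi, h4⟩ := (hp.prime.dvd_finset_prod_iff _).1 h3
        have := le_of_dvd (by omega) h4
        have := mem_range.1 hi
        omega
    obtain ⟨O', hO'⟩ : C ∣ O := hC.dvd_of_dvd_mul_right (h1 ▸ Dvd.intro_left _ rfl)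
    obtain ⟨e, c, hc, he⟩ := exists_eq_two_pow_mul_odd (factorial_ne_zero (t + 1))
    have hcC : c.Coprime C := Nat.coprime_of_dvd fun p hp hc hd => by
      have h2 := h p hp hd
      have := hp.dvd_factorial.1 (he ▸ hc.mul_left _)
      omega
    have h2 : c ∣ O' := hcC.dvd_of_dvd_mul_left (hO' ▸ odd_dvd_prod u hc (he ▸ Dvd.intro_left _ rfl))
    have hCpos : 0 < C := choose_pos (by omega)
    have hOpos : 0 < O := prod_pos fun i _ => by omega
    have hO'pos : 0 < O' := Nat.pos_of_ne_zero fun h0 => by rw [h0, mul_zero] at hO'; omega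
    have het : e ≤ t := by
      have h3 := emultiplicity_two_factorial_lt (n := t + 1) (by omega)
      have h4 : (e : ℕ∞) ≤ emultiplicity 2 (t + 1)! :=
        le_emultiplicity_of_pow_dvd (he ▸ Dvd.intro _ rfl)
      have : e < t + 1 := by exact_mod_cast h4.trans_lt h3
      omega
    have h3 : O' * (2 ^ t * (u + 1).ascFactorial t) = (2 * t + 1)! :=
      Nat.eq_of_mul_eq_mul_left hCpos (by rw [← mul_assoc, ← hO', h1, mul_comm])
    have h4 : (t + 1)! * (u + 1).ascFactorial t ≤ (t + 1)! * (t + 1 + 1).ascFactorial t := by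
      rw [factorial_mul_ascFactorial, show t + 1 + t = 2 * t + 1 by omega, ← h3, he, ← mul_assoc,
        mul_comm O']
      exact Nat.mul_le_mul_right _ (Nat.mul_le_mul (Nat.pow_le_pow_right two_pos het)
        (le_of_dvd hO'pos h2))
    by_contra h5
    exact absurd (Nat.le_of_mul_le_mul_left h4 (factorial_pos _))
      (ascFactorial_lt (by omega) (by omega) (by omega)).not_ge
  obtain rfl : u = t + 1 := by omega
  have h12 : 2 * (t + 1) + 2 ∣ 12 := by
    have h1 : ((2 * (t + 1) + 2 : ℕ) : ℤ) ∣ ((2 * t + 1) * (2 * t) : ℕ) := Int.natCast_dvd_natCast.2 hb2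
    have h2 : ((2 * (t + 1) + 2 : ℕ) : ℤ) ∣ ((2 * t + 1) * (2 * t) : ℕ) - 12 :=
      ⟨2 * t - 3, by push_cast; ring⟩
    have := dvd_sub h1 h2
    rw [sub_sub_cancel] at this
    exact_mod_cast this
  have := le_of_dvd (by norm_num) h12
  have ht : t ≤ 4 := by omega
  interval_cases t
  all_goals first | omega | exact absurd (h 2 prime_two (by decide)) (by norm_num)

theorem not_dvd_choose_add {a b : ℕ} (hb : b.Prime) (hab : a < b) : ¬ b ∣ (a + b).choose a :=
  fun h => by
    have h1 := ascFactorial_eq_factorial_mul_choose b a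
    rw [add_comm b a, ascFactorial_eq_prod_range] at h1
    obtain ⟨i, hi, h2⟩ := (hb.prime.dvd_finset_prod_iff _).1 (h1 ▸ h.mul_left _)
    have := mem_range.1 hi
    rw [add_assoc, Nat.dvd_add_right dvd_rfl] at h2
    have := le_of_dvd (by omega) h2
    omega

theorem choose_dvd_uniformBell {a b j : ℕ} (hj : j < b) :
    (j * a + a - 1).choose (a - 1) ∣ uniformBell b a := by
  rw [uniformBell_eq]
  exact dvd_prod_of_mem _ (mem_range.2 hj)

theorem prime_dvd_uniformBell {a b p : ℕ} (hp : p.Prime) (ha : 2 ≤ a) (h1 : a < p)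
    (h2 : p ≤ b * a) : p ∣ uniformBell b a := by
  have h3 : p % a ≠ 0 := fun h => by
    have := hp.eq_one_or_self_of_dvd a (Nat.dvd_of_mod_eq_zero h)
    omega
  have h4 := Nat.div_add_mod' p a
  have h5 := Nat.mod_lt p (show 0 < a by omega)
  have hj : p / a < b := by
    by_contra h
    have := Nat.mul_le_mul_right a (not_lt.1 h)
    omega
  refine Dvd.dvd.trans ?_ (choose_dvd_uniformBell hj)
  rw [show p / a * a + a - 1 = a - 1 + p / a * a by omega]
  exact hp.dvd_choose_add (by omega) (by omega) (by omega)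

end Cfsg.Agent.Sym
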