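import Mathlib
import Cfsg.Agent.Sym.HallNum
import Cfsg.Agent.Sym.TwoOver
import Cfsg.Agent.Sym.Index
import Cfsg.Agent.Perm.PrimeIndex
import Cfsg.Agent.Perm.PrimeDegree2
import Cfsg.Agent.GT.PiGroups
import Cfsg.Agent.GT.Conj

/-!
# Hall subgroups of alternating groups (P. Hall, Thompson)

`hall_main`: a Hall `π`-subgroup `M` of `Alt(α)`, with two primes of `π` at most `n = |α|` and
some prime `≤ n` outside `π`, lies in the stabiliser of a point (`n` prime), of a `3`-set
(`n = 7`) or of a partition `4 + 4` (`n = 8`).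
-/

set_option autoImplicit false

namespace Cfsg.Agent.Sym

open Subgroup Equiv Equiv.Perm MulAction GT
open scoped Nat

variable {α ι : Type*} {π : Set ℕ}

/-- The stabiliser of all fibres of `f`. -/
def fiberStab (f : α → ι) : Subgroup (Perm α) where
  carrier := {g | ∀ x, f (g x) = f x}
  one_mem' := fun _ => rfl
  mul_mem' := fun {g h} hg hh x => (hg _).trans (hh x)
  inv_mem' := fun {g} hg x => by simpa using (hg (g⁻¹ x)).symm

theorem fiberStab_le_partStab (f : α → ι) : fiberStab f ≤ partStab f :=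
  fun _ hg => mem_partStab_of_apply_eq 1 hg

theorem swap_mem_fiberStab [DecidableEq α] {f : α → ι} {u v : α} (h : f u = f v) :
    swap u v ∈ fiberStab f := fun x => by
  rw [swap_apply_def]; split_ifs <;> simp_all

theorem partStab_le_normalizer (f : α → ι) : partStab f ≤ normalizer (fiberStab f : Set (Perm α)) := by
  intro g hg
  refine mem_normalizer_iff.2 fun h => ⟨fun hh x => ?_, fun hh x => ?_⟩
  · have := (hg (h (g⁻¹ x)) (g⁻¹ x)).1 (hh _)
    simpa using this
  · refine (hg _ _).2 ?_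
    simpa using hh (g x)

theorem card_fiberStab [Finite α] [Fintype ι] (f : α → ι) :
    Nat.card (fiberStab f) = ∏ i, (Nat.card {x // f x = i})! := by
  classical
  haveI := Fintype.ofFinite α
  have h := DomMulAct.stabilizer_card f
  simp only [← Nat.card_eq_fintype_card] at h
  rw [← h]
  exact Nat.card_congr (subtypeEquivRight fun g => funext_iff.symm)

/-- The action on the parts of a partition. -/
noncomputable def partHom (f : α → ι) (hf : Function.Surjective f) : partStab f →* Perm ι :=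
  MonoidHom.toHomPerm
    { toFun := fun g i => f (g.1 (Function.surjInv hf i))
      map_one' := funext fun i => Function.surjInv_eq hf i
      map_mul' := fun g h => funext fun i =>
        (g.2 _ _).1 (Function.surjInv_eq hf (f (h.1 (Function.surjInv hf i)))).symm }

theorem partHom_apply {f : α → ι} (hf : Function.Surjective f) (g : partStab f) (x : α) :
    partHom f hf g (f x) = f (g.1 x) :=
  (g.2 _ _).1 (Function.surjInv_eq hf (f x))

theorem card_partStab_dvd [Finite α] [Fintype ι] {f : α → ι} (hf : Function.Surjective f) :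
    Nat.card (partStab f) ∣ (∏ i, (Nat.card {x // f x = i})!) * (Fintype.card ι)! := by
  have hk : (partHom f hf).ker = (fiberStab f).subgroupOf (partStab f) := by
    ext g
    refine ⟨fun h x => ?_, fun h => Equiv.ext fun i => ?_⟩
    · exact (partHom_apply hf g x).symm.trans (by rw [MonoidHom.mem_ker.1 h]; rfl)
    · obtain ⟨x, rfl⟩ := hf i
      rw [partHom_apply]; exact h x
  rw [← (partHom f hf).ker.card_mul_index, hk, card_subgroupOf_of_le (fiberStab_le_partStab f),
    card_fiberStab, ← hk, index_ker, ← Nat.card_eq_fintype_card, ← Nat.card_perm]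
  exact Nat.mul_dvd_mul_left _ (card_subgroup_dvd_card _)

theorem hall_comap {G G' : Type*} [Group G] [Group G'] [Finite G] (ψ : G' →* G)
    (hψ : Function.Injective ψ) {A : Subgroup G'} {H K : Subgroup G} (hH : IsPiHallOf π H K)
    (hle : A.map ψ ≤ K) (hn : K ≤ normalizer (A.map ψ : Set G)) :
    IsPiHallOf π (H.comap ψ ⊓ A) A := by
  haveI : ((A.map ψ).subgroupOf K).Normal := normal_subgroupOf_of_le_normalizer hn
  have h1 := (hH.subgroupOf.inf_normal ((A.map ψ).subgroupOf K)).relIndex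
  rw [inf_relIndex_right, relIndex_subgroupOf hle] at h1
  refine isPiHallOf_iff.2 ⟨inf_le_right, ?_, by rwa [inf_relIndex_right, relIndex_comap]⟩
  rw [← card_map_of_injective hψ]
  exact hH.card.card_of_le (map_le_iff_le_comap.2 inf_le_left)

/-- The numerical cases. -/
def HallCase (π : Set ℕ) (n a : ℕ) : Prop :=
  (a = 1 ∧ n.Prime ∧ ∀ r, r.Prime → r ≤ n → (r ∈ π ↔ r < n)) ∨
    (((n = 7 ∧ a = 3) ∨ (n = 8 ∧ a = 4)) ∧ ∀ r, r.Prime → r ≤ n → (r ∈ π ↔ (r = 2 ∨ r = 3)))

theorem two_three_mem {n r s : ℕ} (hr : r.Prime) (hs : s.Prime) (hrs : r < s) (hsπ : s ∈ π)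
    (hsn : s ≤ n) (h : (∀ p, p.Prime → p ≤ n → p ∈ π) ∨ ∃ a, HallCase π n a) :
    2 ∈ π ∧ 3 ∈ π := by
  have := hr.two_le
  rcases h with h | ⟨a, ⟨-, -, h⟩ | ⟨h1, h⟩⟩
  · exact ⟨h 2 Nat.prime_two (by omega), h 3 Nat.prime_three (by omega)⟩
  · have := (h s hs hsn).1 hsπ
    exact ⟨(h 2 Nat.prime_two (by omega)).2 (by omega), (h 3 Nat.prime_three (by omega)).2 (by omega)⟩
  · exact ⟨(h 2 Nat.prime_two (by omega)).2 (by omega), (h 3 Nat.prime_three (by omega)).2 (by omega)⟩

theorem prime_le_eight {r : ℕ} (hr : r.Prime) (h : r ≤ 8) : r = 2 ∨ r = 3 ∨ r = 5 ∨ r = 7 := by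
  interval_cases r <;> simp_all (config := {decide := true})

theorem hallCase_of_choose {a b r s : ℕ} (ha : 1 ≤ a) (hab : a ≤ b)
    (hk : IsPiNum πᶜ ((a + b).choose a)) (hr : r.Prime) (hs : s.Prime) (hrs : r < s) (hsπ : s ∈ π)
    (hsn : s ≤ a + b) (ih : s ≤ b → (∀ p, p.Prime → p ≤ b → p ∈ π) ∨ ∃ c, HallCase π b c) :
    HallCase π (a + b) a := by
  have hbig : ∀ p, p.Prime → b < p → p ≤ a + b → p ∉ π := fun p hp h1 h2 =>
    hk p hp (hp.dvd_choose_add (by omega) h1 h2)
  have hsb : s ≤ b := not_lt.1 fun h => hbig s hs h hsn hsπ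
  obtain ⟨h2, h3⟩ := two_three_mem hr hs hrs hsπ hsb (ih hsb)
  have hr2 := hr.two_le
  rcases ih hsb with h | ⟨c, ⟨-, hb, h⟩ | ⟨h1, h⟩⟩
  · rcases eq_of_choose_primes ha hab (fun p hp hd => not_le.1 fun h1 => hk p hp hd (h p hp h1))
      with rfl | ⟨rfl, rfl⟩
    · have hn : (1 + b).Prime := by
        have h4 := Nat.minFac_prime (show 1 + b ≠ 1 by omega)
        have h5 : b < (1 + b).minFac := not_le.1 fun h1 =>
          hk _ h4 (by rw [Nat.choose_one_right]; exact Nat.minFac_dvd _) (h _ h4 h1)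
        have h6 := Nat.minFac_le (show 0 < 1 + b by omega)
        rwa [show (1 + b).minFac = 1 + b by omega] at h4
      exact Or.inl ⟨rfl, hn, fun p hp hpn => ⟨fun h1 => not_le.1 fun h4 =>
        hbig p hp (by omega) hpn h1, fun h1 => h p hp (by omega)⟩⟩
    · refine Or.inr ⟨Or.inl ⟨rfl, rfl⟩, fun p hp hpn => ⟨fun h1 => ?_, ?_⟩⟩
      · have := prime_le_eight hp (by omega)
        have : ¬ 4 < p := fun h4 => hbig p hp h4 hpn h1
        omega
      · rintro (rfl | rfl) <;> assumption
  · exfalso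
    have hsb' := (h s hs hsb).1 hsπ
    rcases hab.eq_or_lt with rfl | hab'
    · refine hk 2 Nat.prime_two ?_ h2
      rw [← two_mul, ← Nat.centralBinom_eq_two_mul_choose]
      exact Nat.two_dvd_centralBinom_of_one_le ha
    rcases eq_of_choose_primes ha hab (fun p hp hd => by
      refine lt_of_le_of_ne (not_lt.1 fun h1 => hk p hp hd ((h p hp h1.le).2 h1)) ?_
      rintro rfl
      exact not_dvd_choose_add hb hab' hd) with rfl | ⟨rfl, rfl⟩
    · refine hk 2 Nat.prime_two ?_ h2
      obtain ⟨m, hm⟩ := hb.odd_of_ne_two (by omega)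
      rw [Nat.choose_one_right]; omega
    · exact absurd hb (by decide)
  · exfalso
    have h4 := fun h => hk 2 Nat.prime_two h h2
    have h5 := fun h => hk 3 Nat.prime_three h h3
    rcases h1 with ⟨rfl, -⟩ | ⟨rfl, -⟩ <;> interval_cases a <;>
      first | exact h4 (by decide) | exact h5 (by decide)

theorem eq_of_uniformBell {a b r s : ℕ} (ha : 2 ≤ a) (hb : 2 ≤ b)
    (hk : IsPiNum πᶜ (Nat.uniformBell b a)) (hn : IsPiNum π (b * a)) (hr : r.Prime) (hs : s.Prime)
    (hrs : r < s) (hsπ : s ∈ π) (hsn : s ≤ b * a)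
    (ih : s ≤ a → (∀ p, p.Prime → p ≤ a → p ∈ π) ∨ ∃ c, HallCase π a c) :
    a = 4 ∧ b = 2 ∧ HallCase π 8 4 := by
  have hbig : ∀ p, p.Prime → a < p → p ≤ b * a → p ∉ π := fun p hp h1 h2 =>
    hk p hp (prime_dvd_uniformBell hp ha h1 h2)
  have hsa : s ≤ a := not_lt.1 fun h => hbig s hs h hsn hsπ
  obtain ⟨h2, h3⟩ := two_three_mem hr hs hrs hsπ hsa (ih hsa)
  have hr2 := hr.two_le
  have hk1 := hk.of_dvd (choose_dvd_uniformBell (a := a) (show 1 < b by omega))
  rcases ih hsa with h | ⟨c, ⟨-, hp, h⟩ | ⟨h1, h⟩⟩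
  · rw [show 1 * a + a - 1 = a - 1 + a by omega] at hk1
    rcases eq_of_choose_primes (by omega) (by omega)
      (fun p hp hd => not_le.1 fun h1 => hk1 p hp hd (h p hp h1)) with h1 | ⟨-, rfl⟩
    · omega
    obtain rfl : b = 2 := by
      by_contra h1
      exact hk.of_dvd (choose_dvd_uniformBell (show 2 < b by omega)) 3 Nat.prime_three
        (by decide) h3
    refine ⟨rfl, rfl, Or.inr ⟨Or.inr ⟨rfl, rfl⟩, fun p hp hpn => ⟨fun h1 => ?_, ?_⟩⟩⟩
    · have := prime_le_eight hp hpn
      have : ¬ 4 < p := fun h4 => hbig p hp h4 hpn h1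
      omega
    · rintro (rfl | rfl) <;> assumption
  · exact absurd ((h a hp le_rfl).1 (hn a hp (Dvd.intro_left _ rfl))) (lt_irrefl _)
  · rcases h1 with ⟨rfl, -⟩ | ⟨rfl, -⟩
    · have := (h 7 (by norm_num) le_rfl).1 (hn 7 (by norm_num) (Dvd.intro_left _ rfl))
      omega
    · exact absurd h3 (hk1 3 Nat.prime_three (by decide))

variable [Fintype α] [DecidableEq α] {M : Subgroup (Perm α)}

theorem isPiNum_of_le (hM : IsPiHallOf π M (alternatingGroup α)) {L : Subgroup (Perm α)}
    (hML : M ≤ L) (hL : ¬ L ≤ alternatingGroup α) {m k : ℕ} (hm : Nat.card L ∣ m)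
    (h : m * k = (Fintype.card α)!) : IsPiNum πᶜ k := by
  refine hM.relIndex.of_dvd (Dvd.dvd.trans ?_ (relIndex_dvd_of_le_left _ hML))
  rw [relIndex, index_subgroupOf_alternatingGroup hL]
  obtain ⟨c, rfl⟩ := hm
  have h1 := L.card_mul_index
  rw [Nat.card_perm, Nat.card_eq_fintype_card (α := α), ← h, mul_assoc] at h1
  exact Nat.eq_of_mul_eq_mul_left Nat.card_pos h1 ▸ Dvd.intro_left _ rfl

theorem map_ofSubtype_alternatingGroup (p : α → Prop) [DecidablePred p] {g : Perm α} :
    g ∈ (alternatingGroup {x // p x}).map ofSubtype ↔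
      g ∈ alternatingGroup α ∧ ∀ x, g x ≠ x → p x := by
  constructor
  · rintro ⟨σ, hσ, rfl⟩
    exact ⟨by rwa [mem_alternatingGroup, sign_ofSubtype], fun x hx => by
      by_contra h
      exact hx (ofSubtype_apply_of_not_mem σ h)⟩
  · rintro ⟨h1, h2⟩
    obtain ⟨σ, rfl⟩ := (mem_range_ofSubtype_iff (p := p)).2 fun x hx => h2 x (by simpa using hx)
    exact ⟨σ, by rwa [mem_alternatingGroup, sign_ofSubtype] at h1, rfl⟩

/-- Restriction of a Hall subgroup to an invariant subset. -/
theorem exists_hall_subtype {H K : Subgroup (Perm α)} (hH : IsPiHallOf π H K) (p : α → Prop)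
    [DecidablePred p] (h1 : ∀ g ∈ K, ∀ x, p x → p (g x))
    (h2 : ∀ g ∈ alternatingGroup α, (∀ x, g x ≠ x → p x) → g ∈ K) :
    ∃ H', IsPiHallOf π H' (alternatingGroup {x // p x}) := by
  refine ⟨_, hall_comap ofSubtype ofSubtype_injective hH (fun g hg => ?_) fun g hg => ?_⟩
  · obtain ⟨h3, h4⟩ := (map_ofSubtype_alternatingGroup p).1 hg
    exact h2 g h3 h4
  · refine mem_normalizer_iff_of_finite.2 fun σ hσ => ?_
    obtain ⟨h3, h4⟩ := (map_ofSubtype_alternatingGroup p).1 hσ
    refine (map_ofSubtype_alternatingGroup p).2 ⟨(alternatingGroup.normal).conj_mem σ h3 g,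
      fun x hx => ?_⟩
    have := h1 g hg _ (h4 (g⁻¹ x) fun h => hx (by rw [mul_apply, mul_apply, h]; simp))
    simpa using this

theorem exists_hall_fiber {H : Subgroup (Perm α)} {f : α → ι} [DecidableEq ι]
    (hH : IsPiHallOf π H (fiberStab f ⊓ alternatingGroup α)) (i : ι) :
    ∃ H', IsPiHallOf π H' (alternatingGroup {x // f x = i}) :=
  exists_hall_subtype hH _ (fun g hg x hx => (hg.1 x).trans hx) fun g hg h => ⟨fun x => by
    by_cases hx : g x = x
    · rw [hx]
    · rw [h x hx, h (g x) fun h' => hx (g.injective h')], hg⟩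

theorem card_fiber_add (f : α → Bool) :
    Nat.card {x // f x = true} + Nat.card {x // f x = false} = Fintype.card α := by
  rw [← Fintype.sum_bool (fun i => Nat.card {x // f x = i}), ← Nat.card_sigma,
    Nat.card_congr (sigmaFiberEquiv f), Nat.card_eq_fintype_card]

theorem exists_bool_of_not_isPretransitive (h : ¬ IsPretransitive M α) :
    ∃ f : α → Bool, M ≤ fiberStab f ∧ 1 ≤ Nat.card {x // f x = true} ∧
      Nat.card {x // f x = true} ≤ Nat.card {x // f x = false} := by
  classical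
  obtain ⟨x, y, hxy⟩ : ∃ x y : α, y ∉ orbit M x := by
    by_contra! hc
    exact h ⟨fun x y => hc x y⟩
  have key : ∀ g ∈ M, ∀ z, g z ∈ orbit M x ↔ z ∈ orbit M x := fun g hg z =>
    ⟨fun h => by simpa [Subgroup.smul_def] using mem_orbit_of_mem_orbit (⟨g, hg⟩⁻¹ : M) h,
      fun h => mem_orbit_of_mem_orbit (⟨g, hg⟩ : M) h⟩
  by_cases hc : Nat.card {z // z ∈ orbit M x} ≤ Nat.card {z // z ∉ orbit M x}
  · refine ⟨fun z => decide (z ∈ orbit M x), fun g hg z => by simp [key g hg], ?_, by simpa using hc⟩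
    haveI : Nonempty {z // decide (z ∈ orbit M x) = true} := ⟨⟨x, by simp⟩⟩
    exact Nat.card_pos
  · refine ⟨fun z => decide (z ∉ orbit M x), fun g hg z => by simp [key g hg], ?_,
      by simpa using (not_le.1 hc).le⟩
    haveI : Nonempty {z // decide (z ∉ orbit M x) = true} := ⟨⟨y, by simpa using hxy⟩⟩
    exact Nat.card_pos

theorem exists_partStab_of_not_isPreprimitive [IsPretransitive M α] [Nontrivial α]
    (h : ¬ IsPreprimitive M α) : ∃ (a b : ℕ) (f : α → Fin b), 2 ≤ a ∧ 2 ≤ b ∧
      (∀ i, Nat.card {x // f x = i} = a) ∧ M ≤ partStab f := by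
  obtain ⟨x, y, hxy⟩ := exists_pair_ne α
  have h1 : stabilizer M x ≠ ⊤ := fun h => by
    obtain ⟨g, hg⟩ := exists_smul_eq M x y
    exact hxy ((show g • x = x from (h ▸ mem_top g : g ∈ stabilizer M x)).symm.trans hg)
  obtain ⟨K, hK, hK'⟩ : ∃ K, stabilizer M x < K ∧ K ≠ ⊤ := by
    by_contra! hc
    exact h ((isCoatom_stabilizer_iff_preprimitive M x).1 ⟨h1, hc⟩)
  choose r hr using exists_smul_eq M x
  have e : (M ⧸ K) ≃ Fin K.index := Finite.equivFinOfCardEq rfl
  have key : ∀ (g : M) y, (r (g • y) : M ⧸ K) = g • (r y : M ⧸ K) := fun g y => by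
    refine QuotientGroup.eq.2 (hK.le ?_)
    change ((r (g • y))⁻¹ * (g * r y)) • x = x
    rw [mul_smul, mul_smul, hr, inv_smul_eq_iff, hr]
  refine ⟨Nat.card {y // (r y : M ⧸ K) = r x}, K.index, fun y => e (r y), ?_,
    one_lt_index_of_ne_top hK', fun i => ?_, fun g hg => mem_partStab_of_imp fun y z h => ?_⟩
  · obtain ⟨g, hg, hg'⟩ := SetLike.exists_of_lt hK
    refine Finite.one_lt_card_iff_nontrivial.2 ⟨⟨g • x, ?_⟩, ⟨x, rfl⟩, fun h =>
      hg' (congrArg Subtype.val h)⟩
    rw [key]
    have h2 : r x ∈ K := hK.le (hr x)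
    exact QuotientGroup.eq.2 (mul_mem (inv_mem (mul_mem hg h2)) h2)
  · obtain ⟨g, hg⟩ := exists_smul_eq M (e.symm i) (r x : M ⧸ K)
    refine Nat.card_congr ((toPerm g).subtypeEquiv fun y => ?_)
    rw [toPerm_apply, key, ← hg, smul_left_cancel_iff, eq_symm_apply]
  · exact congrArg e ((key ⟨g, hg⟩ y).trans ((e.injective h ▸ rfl : _ = _).trans
      (key ⟨g, hg⟩ z).symm))

theorem relIndex_stabilizer [IsPretransitive M α] (x : α) :
    (stabilizer (Perm α) x).relIndex M = Fintype.card α := by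
  rw [← Nat.card_eq_fintype_card]
  exact index_stabilizer_of_transitive M x

theorem prime_dvd_card_alternatingGroup {p : ℕ} (hp : p.Prime) (h4 : 4 ≤ Fintype.card α)
    (h : p ≤ Fintype.card α) : p ∣ Nat.card (alternatingGroup α) := by
  haveI : Nontrivial α := Fintype.one_lt_card_iff_nontrivial.1 (by omega)
  have h1 := two_mul_nat_card_alternatingGroup (α := α)
  rw [Nat.card_perm, Nat.card_eq_fintype_card (α := α)] at h1
  rcases hp.eq_two_or_odd' with rfl | h2
  · refine Nat.dvd_of_mul_dvd_mul_left two_pos (h1 ▸ Dvd.dvd.trans (by decide)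
      (Nat.factorial_dvd_factorial h4))
  · exact (Nat.coprime_two_right.2 h2).dvd_of_dvd_mul_left (h1 ▸ hp.dvd_factorial.2 h)

theorem not_two_pow_add_one (hM : IsPiHallOf π M (alternatingGroup α)) [IsPretransitive M α]
    (hA : ¬ alternatingGroup α ≤ M) (h2 : 2 ∈ π) {k : ℕ} (hk : 2 ≤ k) :
    Fintype.card α ≠ 2 ^ k + 1 := fun hn => by
  obtain ⟨Q⟩ : Nonempty (Sylow 2 M) := inferInstance
  have hQ := (isPiHall_sylow Q).map_subtype.trans_relIndex hM.le
    (hM.relIndex.mono (Set.compl_subset_compl.2 (Set.singleton_subset_iff.2 h2)))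
  obtain ⟨P, hP⟩ := (Q.2.map M.subtype).exists_le_sylow
  have h3 := hQ.eq_of_le ((isPiHall_sylow P).card.card_of_le inf_le_left) (le_inf hP hQ.le)
    inf_le_right
  obtain ⟨x, -, hx⟩ := exists_le_stabilizer_of_card_eq_two_pow_add_one hk hn P
  rcases hx M (h3 ▸ map_subtype_le _) with h | h
  · have h4 := relIndex_stabilizer (M := M) x
    rw [relIndex_eq_one.2 h, hn] at h4
    have := Nat.pos_of_ne_zero (pow_ne_zero k two_ne_zero)
    omega
  · exact hA h

theorem card_dvd_of_prime [IsPretransitive M α] (hp : (Fintype.card α).Prime) :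
    Nat.card M ∣ Fintype.card α * (Fintype.card α - 1) ∨ Fintype.card α - 1 ∣ Nat.card M := by
  haveI := Fact.mk hp
  obtain ⟨P⟩ : Nonempty (Sylow (Fintype.card α) M) := inferInstance
  obtain ⟨x⟩ : Nonempty α := Fintype.card_pos_iff.1 hp.pos
  obtain ⟨τ, -, -, e, -, he⟩ := Perm.exists_coord_sylow Nat.card_eq_fintype_card P x
  rcases Perm.affine_or_two_pretransitive he with h | h
  · obtain ⟨k, hk, hc, -⟩ := Perm.exists_card_normalizer he
    have : normalizer (zpowers τ : Set M) = ⊤ := eq_top_iff.2 fun g _ => by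
      obtain ⟨a, b, hab⟩ := h g
      refine mem_normalizer_of_map_conj_le ?_
      rw [map_conj_zpowers, zpowers_le]
      refine Perm.mem_zpowers_of_translation he (b := a) fun y => ?_
      have := hab (g⁻¹ • y)
      rw [smul_inv_smul] at this
      rw [mul_smul, mul_smul, hab, he, this]; ring
    rw [this, card_top] at hc
    exact Or.inl (hc ▸ Nat.mul_dvd_mul_left _ hk)
  · have := Perm.descFactorial_dvd_card h (by rw [Nat.card_eq_fintype_card]; exact hp.two_le)
    rw [Nat.card_eq_fintype_card (α := α)] at this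
    exact Or.inr (Dvd.dvd.trans (by simp [Nat.descFactorial]) this)

theorem exists_hall_ne (hM : IsPiHallOf π M (alternatingGroup α)) [IsPretransitive M α] (x : α) :
    ∃ H', IsPiHallOf π H' (alternatingGroup {y // y ≠ x}) := by
  haveI : IsPretransitive (alternatingGroup α) α := ⟨fun y z => by
    obtain ⟨g, hg⟩ := exists_smul_eq M y z
    exact ⟨⟨g, hM.le g.2⟩, hg⟩⟩
  set S := stabilizer (Perm α) x
  have h1 : IsPiHallOf π (S ⊓ M) (S ⊓ alternatingGroup α) := by
    refine isPiHallOf_iff.2 ⟨inf_le_inf_left _ hM.le, hM.card.card_of_le inf_le_right, ?_⟩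
    have h2 := relIndex_mul_relIndex (S ⊓ M) M _ inf_le_right hM.le
    rw [← relIndex_mul_relIndex (S ⊓ M) (S ⊓ alternatingGroup α) _ (inf_le_inf_left _ hM.le)
      inf_le_right, inf_relIndex_right, inf_relIndex_right, relIndex_stabilizer,
      relIndex_stabilizer, mul_comm] at h2
    haveI : Nonempty α := ⟨x⟩
    rw [← Nat.eq_of_mul_eq_mul_right Fintype.card_pos h2]
    exact hM.relIndex
  refine exists_hall_subtype h1 _ (fun g hg y hy h => hy (g.injective (h.trans hg.1.symm)))
    fun g hg h => ⟨?_, hg⟩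
  by_contra h2
  exact h x h2 rfl

theorem all_mem_of_isPreprimitive (hM : IsPiHallOf π M (alternatingGroup α))
    (hP : IsPreprimitive M α) (h5 : 5 ≤ Fintype.card α) {r s : ℕ} (hr : r.Prime) (hs : s.Prime)
    (hrs : r < s) (hrπ : r ∈ π) (hsπ : s ∈ π) (hsn : s ≤ Fintype.card α)
    (ih : 2 ∈ π → 2 < s → s ≤ Fintype.card α - 1 → 3 ∈ π) :
    ∀ p, p.Prime → p ≤ Fintype.card α → p ∈ π := by
  by_cases hA : alternatingGroup α ≤ M
  · exact fun p hp h => hM.card p hp
      ((prime_dvd_card_alternatingGroup hp (by omega) h).trans (card_dvd_of_le hA))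
  haveI : Nontrivial α := Fintype.one_lt_card_iff_nontrivial.1 (by omega)
  have hbig : ∀ q, q.Prime → q ∈ π → q + 3 ≤ Fintype.card α → q = 2 := fun q hq hqπ h => by
    have h1 := Perm.prime_dvd_index_of_isPreprimitive M hP hA h5 hq h
    rw [← relIndex_mul_index hM.le, alternatingGroup.index_eq_two] at h1
    exact (Nat.prime_dvd_prime_iff_eq hq Nat.prime_two).1
      (((Nat.Prime.dvd_mul hq).1 h1).resolve_left fun h => hM.relIndex q hq h hqπ)
  obtain ⟨x⟩ : Nonempty α := inferInstance
  have hn : IsPiNum π (Fintype.card α) :=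
    hM.card.of_dvd (relIndex_stabilizer (M := M) x ▸ relIndex_dvd_card _ _)
  have hr2 := hr.two_le
  have hfac : ∀ m q, IsPiNum π m → ¬ m.Prime → m ≠ 0 → m / 2 + 3 ≤ Fintype.card α → q.Prime →
      q ∣ m → q = 2 := fun m q hm hm' h0 h hq ⟨c, hc⟩ => by
    refine hbig q hq (hm q hq ⟨c, hc⟩) ?_
    have h1 : 2 ≤ c := by
      rcases c with _ | _ | c
      · simp at hc; omega
      · rw [hc, zero_add, mul_one] at hm'; exact absurd hq hm'
      · omega
    have := Nat.mul_le_mul_left q h1
    omega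
  exfalso
  by_cases hp : (Fintype.card α).Prime
  · have hp1 : ¬ (Fintype.card α - 1).Prime := fun h => by
      obtain ⟨a, ha⟩ := hp.odd_of_ne_two (by omega)
      obtain ⟨b, hb⟩ := h.odd_of_ne_two (by omega)
      omega
    rcases card_dvd_of_prime (M := M) hp with h | h
    · have h1 := two_mul_nat_card_alternatingGroup (α := α)
      obtain ⟨m, hm⟩ : ∃ m, Fintype.card α = m + 2 := ⟨Fintype.card α - 2, by omega⟩
      rw [Nat.card_perm, Nat.card_eq_fintype_card (α := α), ← card_mul_relIndex hM.le, hm,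
        Nat.factorial_succ, Nat.factorial_succ] at h1
      rw [hm] at h
      obtain ⟨c, hc⟩ := h
      rw [show m + 2 - 1 = m + 1 from rfl] at hc
      have h2 : m ! ∣ 2 * M.relIndex (alternatingGroup α) := ⟨c,
        Nat.eq_of_mul_eq_mul_left (Nat.card_pos (α := M)) (by linear_combination h1 + m ! * hc)⟩
      have hrm : r ≤ m := by
        have : r ≠ Fintype.card α - 1 := fun h => hp1 (h ▸ hr)
        omega
      rcases hr.eq_two_or_odd' with rfl | h3
      · by_cases h4 : 4 ≤ m
        · exact hM.relIndex 2 hr (Nat.dvd_of_mul_dvd_mul_left two_pos (Dvd.dvd.trans (by decide)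
            ((Nat.factorial_dvd_factorial h4).trans h2))) hrπ
        · exact not_two_pow_add_one hM hA hrπ le_rfl (by omega)
      · exact hM.relIndex r hr ((Nat.coprime_two_right.2 h3).dvd_of_dvd_mul_left
          ((hr.dvd_factorial.2 hrm).trans h2)) hrπ
    · have h1 := hM.card.of_dvd h
      obtain ⟨a, ha⟩ := hp.odd_of_ne_two (by omega)
      have h2 := Nat.eq_prime_pow_of_unique_prime_dvd (n := Fintype.card α - 1) (p := 2) (by omega)
        fun {q} hq hd => hfac _ q h1 hp1 (by omega) (by omega) hq hd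
      generalize (Fintype.card α - 1).primeFactorsList.length = k at h2
      refine not_two_pow_add_one hM hA (h1 2 Nat.prime_two (by omega)) (k := k) ?_ (by omega)
      by_contra h3
      interval_cases k <;> omega
  · have h6 : 6 ≤ Fintype.card α := by
      refine lt_of_le_of_ne h5 fun h => hp ?_
      rw [← h]; norm_num
    have h1 := Nat.minFac_prime (show Fintype.card α ≠ 1 by omega)
    have h2 := hfac _ _ hn hp (by omega) (by omega) h1 (Nat.minFac_dvd _)
    have h3 := ih (h2 ▸ hn _ h1 (Nat.minFac_dvd _)) (by omega) (by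
      have : s ≠ Fintype.card α := fun h => hp (h ▸ hs)
      omega)
    exact absurd (hbig 3 Nat.prime_three h3 h6) (by decide)

universe u

theorem hall_main_aux (n : ℕ) : ∀ (α : Type u) [Fintype α] [DecidableEq α], Fintype.card α = n →
    ∀ M : Subgroup (Perm α), IsPiHallOf π M (alternatingGroup α) →
    ∀ r s : ℕ, r.Prime → s.Prime → r < s → r ∈ π → s ∈ π → s ≤ n →
      (∀ p, p.Prime → p ≤ n → p ∈ π) ∨ ∃ a, HallCase π n a ∧
        ∃ f : α → Bool, Nat.card {x // f x = true} = a ∧ M ≤ partStab f := by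
  induction n using Nat.strong_induction_on with
  | _ n ih =>
  intro α _ _ hn M hM r s hr hs hrs hrπ hsπ hsn
  classical
  have hr2 := hr.two_le
  by_cases h5 : n ≤ 4
  · refine Or.inl fun p hp h => ?_
    have := prime_le_eight hp (by omega)
    have := prime_le_eight hs (by omega)
    have : p = r ∨ p = s := by omega
    rcases this with rfl | rfl <;> assumption
  have IH : ∀ (p : α → Prop) [DecidablePred p] {r' : ℕ}, Nat.card {x // p x} < n →
      (∃ H', IsPiHallOf π H' (alternatingGroup {x // p x})) → r'.Prime → r' < s → r' ∈ π →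
      s ≤ Nat.card {x // p x} → (∀ q, q.Prime → q ≤ Nat.card {x // p x} → q ∈ π) ∨
        ∃ c, HallCase π (Nat.card {x // p x}) c := fun p _ r' h1 ⟨H', h2⟩ h3 h4 h5 h6 =>
    (ih _ h1 _ Nat.card_eq_fintype_card.symm H' h2 r' s h3 hs h4 h5 hsπ h6).imp_right
      fun ⟨c, hc, _⟩ => ⟨c, hc⟩
  haveI : Nontrivial α := Fintype.one_lt_card_iff_nontrivial.1 (by omega)
  by_cases hT : IsPretransitive M α
  swap
  · obtain ⟨f, hf, ha, hab⟩ := exists_bool_of_not_isPretransitive hT
    have hsum := card_fiber_add f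
    have hL : ¬ fiberStab f ≤ alternatingGroup α := fun h => by
      haveI : Nontrivial {x // f x = false} := Finite.one_lt_card_iff_nontrivial.1 (by omega)
      obtain ⟨u, v, huv⟩ := exists_pair_ne {x // f x = false}
      exact swap_not_mem_alternatingGroup (Subtype.coe_ne_coe.2 huv)
        (h (swap_mem_fiberStab (u.2.trans v.2.symm)))
    have hk := isPiNum_of_le hM hf hL (card_fiberStab f).dvd
      (k := (Nat.card {x // f x = true} + Nat.card {x // f x = false}).choose
        (Nat.card {x // f x = true})) (by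
      rw [Fintype.prod_bool, ← hsum, add_comm, ← Nat.add_choose_mul_factorial_mul_factorial]
      ring)
    have := hallCase_of_choose ha hab hk hr hs hrs hsπ (by omega) (IH _ (by omega)
      (exists_hall_fiber (hM.of_le (le_inf hf hM.le) inf_le_right) false) hr hrs hrπ)
    rw [hsum, hn] at this
    exact Or.inr ⟨_, this, f, rfl, hf.trans (fiberStab_le_partStab f)⟩
  by_cases hP : IsPreprimitive M α
  · obtain ⟨x⟩ : Nonempty α := inferInstance
    have hx : Nat.card {y // y ≠ x} = n - 1 := by simp [hn]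
    subst hn
    refine Or.inl (all_mem_of_isPreprimitive hM hP (by omega) hr hs hrs hrπ hsπ hsn
      fun h2 h3 h4 => (two_three_mem Nat.prime_two hs h3 hsπ (hx ▸ h4) (IH _ (by omega)
        (exists_hall_ne hM x) Nat.prime_two h3 h2 (hx ▸ h4))).2)
  obtain ⟨a, b, f, ha, hb, hf, hMf⟩ := exists_partStab_of_not_isPreprimitive hP
  have hab := card_eq_mul_of_card_fiber hf
  rw [Fintype.card_fin, hn] at hab
  have hsurj : Function.Surjective f := fun i => by
    obtain ⟨u, -, -, h, -⟩ := exists_pair_fiber ha hf i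
    exact ⟨u, h⟩
  have hL : ¬ partStab f ≤ alternatingGroup α := fun h => by
    obtain ⟨u, v, huv, hu, hv⟩ := exists_pair_fiber ha hf ⟨0, by omega⟩
    exact swap_not_mem_alternatingGroup huv (h (swap_mem_partStab (hu.trans hv.symm)))
  have hk := isPiNum_of_le hM hMf hL (card_partStab_dvd hsurj) (k := Nat.uniformBell b a) (by
    rw [hn, hab, ← Nat.uniformBell_mul_eq b (show a ≠ 0 by omega)]
    simp only [hf, Finset.prod_const, Finset.card_univ, Fintype.card_fin]
    ring)
  obtain ⟨x⟩ : Nonempty α := inferInstance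
  have hnπ : IsPiNum π (b * a) :=
    hM.card.of_dvd (hab ▸ hn ▸ relIndex_stabilizer (M := M) x ▸ relIndex_dvd_card _ _)
  have hH : IsPiHallOf π (M ⊓ (fiberStab f ⊓ alternatingGroup α))
      (fiberStab f ⊓ alternatingGroup α) := by
    have := hall_comap (MonoidHom.id _) Function.injective_id
      (A := fiberStab f ⊓ alternatingGroup α) (hM.of_le (le_inf hMf hM.le) inf_le_right)
      (by simpa using inf_le_left.trans (fiberStab_le_partStab f)) (by
        rw [Subgroup.map_id]
        exact le_trans (inf_le_inf (partStab_le_normalizer f) le_normalizer)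
          (inf_normalizer_le_normalizer_inf ..))
    rwa [comap_id] at this
  obtain ⟨rfl, rfl, h⟩ := eq_of_uniformBell ha hb hk hnπ hr hs hrs hsπ (hab ▸ hsn) (by
    have := IH (fun y => f y = f x) (by rw [hf]; nlinarith) (exists_hall_fiber hH (f x)) hr hrs hrπ
    rwa [hf] at this)
  refine Or.inr ⟨4, hab ▸ h, finTwoEquiv ∘ f, ?_, fun g hg y z => ?_⟩
  · rw [← hf 1]
    exact Nat.card_congr (subtypeEquivRight fun y => finTwoEquiv.apply_eq_iff_eq_symm_apply)
  · simpa using hMf hg y z

/-- The Hall subgroups of alternating groups. -/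
theorem hall_main (hM : IsPiHallOf π M (alternatingGroup α)) {r s : ℕ} (hr : r.Prime) (hs : s.Prime)
    (hrs : r ≠ s) (hrπ : r ∈ π) (hsπ : s ∈ π) (hrn : r ≤ Fintype.card α)
    (hsn : s ≤ Fintype.card α) : (∀ p, p.Prime → p ≤ Fintype.card α → p ∈ π) ∨
      ∃ a, HallCase π (Fintype.card α) a ∧
        ∃ f : α → Bool, Nat.card {x // f x = true} = a ∧ M ≤ partStab f := by
  rcases hrs.lt_or_gt with h | h
  · exact hall_main_aux _ α rfl M hM r s hr hs h hrπ hsπ hsn
  · exact hall_main_aux _ α rfl M hM s r hs hr h hsπ hrπ hrn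

end Cfsg.Agent.Sym
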