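import Mathlib
import Cfsg.Agent.Sym.Hall
import Cfsg.Agent.Sym.Abelian
import Cfsg.Agent.S4310
import Cfsg.Agent.GT.Hall

/-!
# Existence and conjugacy of Hall subgroups of symmetric and alternating groups
-/

set_option autoImplicit false

namespace Cfsg.Agent.Sym

open Subgroup Equiv Equiv.Perm MulAction GT
open scoped Nat

variable {π : Set ℕ}

section General

variable {G : Type*} [Group G] [Finite G]

theorem isPiHall_of_single {p : ℕ} (h : ∀ q, q.Prime → q ∣ Nat.card G → (q ∈ π ↔ q = p))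
    {H : Subgroup G} : IsPiHall π H ↔ IsPiHall {p} H :=
  ⟨fun hH => ⟨fun q hq hd => (h q hq (hd.trans (card_subgroup_dvd_card H))).1 (hH.1 q hq hd),
      fun q hq hqp hd => hH.2 q hq ((h q hq (hd.trans H.index_dvd_card)).2 hqp) hd⟩,
    fun hH => ⟨fun q hq hd => (h q hq (hd.trans (card_subgroup_dvd_card H))).2 (hH.1 q hq hd),
      fun q hq hqp hd => hH.2 q hq ((h q hq (hd.trans H.index_dvd_card)).1 hqp) hd⟩⟩

theorem exists_single (h : ∀ r s : ℕ, r.Prime → s.Prime → r ∈ π → s ∈ π → r ∣ Nat.card G →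
    s ∣ Nat.card G → r = s) : ∃ p : ℕ, p.Prime ∧ ∀ q, q.Prime → q ∣ Nat.card G → (q ∈ π ↔ q = p) := by
  by_cases h1 : ∃ p : ℕ, p.Prime ∧ p ∈ π ∧ p ∣ Nat.card G
  · obtain ⟨p, hp, hpπ, hd⟩ := h1
    exact ⟨p, hp, fun q hq hqd => ⟨fun h2 => h q p hq hp h2 hpπ hqd hd, fun h2 => h2 ▸ hpπ⟩⟩
  · obtain ⟨p, hp, hp'⟩ := Nat.exists_infinite_primes (Nat.card G + 1)
    refine ⟨p, hp', fun q hq hqd => ⟨fun h2 => absurd ⟨q, hq, h2, hqd⟩ h1, fun h2 => ?_⟩⟩
    have := Nat.le_of_dvd Nat.card_pos hqd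
    omega

theorem isCPiGroup_of_single (h : ∀ r s : ℕ, r.Prime → s.Prime → r ∈ π → s ∈ π →
    r ∣ Nat.card G → s ∣ Nat.card G → r = s) : IsCPiGroup π G := by
  obtain ⟨p, hp, h⟩ := exists_single h
  haveI := Fact.mk hp
  obtain ⟨P⟩ : Nonempty (Sylow p G) := inferInstance
  refine ⟨⟨P, (isPiHall_of_single h).2 (isPiHall_sylow P)⟩, fun H K hH hK => ?_⟩
  obtain ⟨Q, rfl⟩ := ((isPiHall_of_single h).1 hH).exists_sylow
  obtain ⟨R, rfl⟩ := ((isPiHall_of_single h).1 hK).exists_sylow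
  obtain ⟨g, rfl⟩ := exists_smul_eq G Q R
  exact ⟨g, rfl⟩

theorem isCPiGroup_of_all (h : IsPiNum π (Nat.card G)) : IsCPiGroup π G := by
  have key : ∀ H : Subgroup G, IsPiHall π H → H = ⊤ := fun H hH =>
    hH.eq_of_le (by rwa [card_top]) le_top
  refine ⟨⟨⊤, isPiHall_iff.2 ⟨by rwa [card_top], by rw [index_top]; exact isPiNum_one _⟩⟩,
    fun H K hH hK => ⟨1, by rw [key H hH, key K hK, map_conj_top]⟩⟩

theorem isCPiGroup_of_isSolvable [Group.IsSolvable G] : IsCPiGroup π G :=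
  ⟨exists_isPiHall π G, fun _ _ hH hK => by
    obtain ⟨g, hg⟩ := hH.exists_conj_eq hK
    exact ⟨g, hg.symm⟩⟩

theorem exists_maximal_ge {K : Subgroup G} (hK : IsPiSubgroup π K) :
    ∃ H, K ≤ H ∧ Maximal (IsPiSubgroup π) H :=
  Finite.exists_le_maximal hK

theorem IsDPi.isPiHall (h : IsDPiGroup π G) {H : Subgroup G} (hH : Maximal (IsPiSubgroup π) H) :
    IsPiHall π H := by
  refine ⟨hH.prop, fun p hp hpπ hd => ?_⟩
  haveI := Fact.mk hp
  obtain ⟨P⟩ : Nonempty (Sylow p G) := inferInstance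
  obtain ⟨K, hPK, hK⟩ := exists_maximal_ge (π := π) (K := (P : Subgroup G))
    (isPiNum_of_isPGroup (G := P) hp P.2 hpπ)
  obtain ⟨g, rfl⟩ := h H K hH hK
  exact P.not_dvd_index (hd.trans (index_map_conj H g ▸ index_dvd_of_le hPK))

theorem isDPiGroup_of_single (h : ∀ r s : ℕ, r.Prime → s.Prime → r ∈ π → s ∈ π →
    r ∣ Nat.card G → s ∣ Nat.card G → r = s) : IsDPiGroup π G := by
  obtain ⟨p, hp, h⟩ := exists_single h
  haveI := Fact.mk hp
  have key : ∀ H : Subgroup G, Maximal (IsPiSubgroup π) H → ∃ P : Sylow p G, H = P := fun H hH => by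
    obtain ⟨P, hP⟩ := ((isPGroup_iff_isPiNum hp).2 fun q hq hd =>
      (h q hq (hd.trans (card_subgroup_dvd_card H))).1 (hH.prop q hq hd)).exists_le_sylow
    exact ⟨P, hH.eq_of_le ((isPiHall_of_single h).2 (isPiHall_sylow P)).1 hP⟩
  intro H K hH hK
  obtain ⟨Q, rfl⟩ := key H hH
  obtain ⟨R, rfl⟩ := key K hK
  obtain ⟨g, rfl⟩ := exists_smul_eq G Q R
  exact ⟨g, rfl⟩

omit [Finite G] in
theorem isDPiGroup_of_all (h : IsPiNum π (Nat.card G)) : IsDPiGroup π G := by
  have key : ∀ H : Subgroup G, Maximal (IsPiSubgroup π) H → H = ⊤ := fun H hH =>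
    hH.eq_of_le (by rwa [isPiSubgroup_iff, card_top]) le_top
  exact fun H K hH hK => ⟨1, by rw [key H hH, key K hK, map_conj_top]⟩

end General

theorem HallCase.unique {n a b : ℕ} (ha : HallCase π n a) (hb : HallCase π n b) : a = b := by
  have key : ∀ {a b : ℕ}, (a = 1 ∧ n.Prime ∧ ∀ r, r.Prime → r ≤ n → (r ∈ π ↔ r < n)) →
      (((n = 7 ∧ b = 3) ∨ (n = 8 ∧ b = 4)) ∧
        ∀ r, r.Prime → r ≤ n → (r ∈ π ↔ (r = 2 ∨ r = 3))) → False := by
    rintro a b ⟨-, -, h1⟩ ⟨h2, h3⟩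
    have := (h3 5 Nat.prime_five (by omega)).1 ((h1 5 Nat.prime_five (by omega)).2 (by omega))
    omega
  rcases ha with ha | ha <;> rcases hb with hb | hb
  · rw [ha.1, hb.1]
  · exact (key ha hb).elim
  · exact (key hb ha).elim
  · have := ha.1
    have := hb.1
    omega

variable {α : Type*} [Fintype α] [DecidableEq α]

theorem le_card_of_dvd {p : ℕ} (hp : p.Prime) (h : p ∣ Nat.card (alternatingGroup α)) :
    p ≤ Fintype.card α := by
  have := h.trans (card_subgroup_dvd_card _)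
  rwa [Nat.card_perm, Nat.card_eq_fintype_card, hp.dvd_factorial] at this

theorem isPiNum_factorial {m : ℕ} (h : ∀ p, p.Prime → p ≤ m → p ∈ π) : IsPiNum π m ! :=
  fun p hp hd => h p hp (hp.dvd_factorial.1 hd)

theorem HallCase.partStab {a : ℕ} (h : HallCase π (Fintype.card α) a) (h3 : 3 ≤ Fintype.card α)
    {f : α → Bool} (hf : Nat.card {x // f x = true} = a) :
    IsPiNum π (Nat.card (partStab f)) ∧ ¬ partStab f ≤ alternatingGroup α := by
  have hs := card_fiber_add f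
  have h1 : 1 ≤ a ∧ 2 ≤ Nat.card {x // f x = false} := by
    rcases h with ⟨h, -⟩ | ⟨h, -⟩ <;> omega
  have h2 : ∀ p, p.Prime → p ≤ max a (Nat.card {x // f x = false}) → p ∈ π := fun p hp hle => by
    rcases h with ⟨rfl, -, h⟩ | ⟨h4, h⟩
    · exact (h p hp (by omega)).2 (by omega)
    · have := prime_le_eight hp (by omega)
      exact (h p hp (by omega)).2 (by omega)
  haveI : Nontrivial {x // f x = false} := Finite.one_lt_card_iff_nontrivial.1 h1.2
  obtain ⟨u, v, huv⟩ := exists_pair_ne {x // f x = false}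
  refine ⟨IsPiNum.of_dvd ?_ (card_partStab_dvd fun i => ?_), fun h =>
    swap_not_mem_alternatingGroup (Subtype.coe_ne_coe.2 huv)
      (h (swap_mem_partStab (u.2.trans v.2.symm)))⟩
  · rw [Fintype.prod_bool, hf, Fintype.card_bool]
    exact ((isPiNum_factorial fun p hp h => h2 p hp (by omega)).mul
      (isPiNum_factorial fun p hp h => h2 p hp (by omega))).mul
        (isPiNum_factorial fun p hp h => h2 p hp (by omega))
  · cases i
    · exact ⟨u, u.2⟩
    · obtain ⟨x⟩ : Nonempty {x // f x = true} := (Nat.card_pos_iff.1 (by omega)).1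
      exact ⟨x, x.2⟩

theorem exists_conj_partStab {f f' : α → Bool}
    (h : Nat.card {x // f x = true} = Nat.card {x // f' x = true})
    (hL : ¬ partStab f ≤ alternatingGroup α) :
    ∃ g ∈ alternatingGroup α, partStab f' = (partStab f).map (MulAut.conj g).toMonoidHom := by
  have h1 : ∀ i, Nat.card {x // f x = i} = Nat.card {x // f' x = i} := fun i => by
    have := card_fiber_add f
    have := card_fiber_add f'
    cases i <;> omega
  obtain ⟨σ, hσ⟩ := exists_perm_fiber (f := f) (f' := f') fun m => by simp only [h1]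
  obtain ⟨l, hl, hg⟩ := exists_mem_alternatingGroup_mul hL σ
  refine ⟨_, hg, ?_⟩
  rw [map_conj_mul, map_conj_eq_of_mem hl]
  ext g
  rw [mem_map_conj, mem_partStab, mem_partStab]
  refine ⟨fun h x y => by simpa [hσ] using h (σ x) (σ y), fun h x y => ?_⟩
  simpa [hσ] using h (σ⁻¹ x) (σ⁻¹ y)

theorem isCPiGroup_alternatingGroup (h : IsEPiGroup π (alternatingGroup α)) :
    IsCPiGroup π (alternatingGroup α) := by
  by_cases h1 : ∀ r s : ℕ, r.Prime → s.Prime → r ∈ π → s ∈ π →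
      r ∣ Nat.card (alternatingGroup α) → s ∣ Nat.card (alternatingGroup α) → r = s
  · exact isCPiGroup_of_single h1
  by_cases h2 : ∀ p, p.Prime → p ≤ Fintype.card α → p ∈ π
  · exact isCPiGroup_of_all fun p hp hd => h2 p hp (le_card_of_dvd hp hd)
  push Not at h1
  obtain ⟨r, s, hr, hs, hrπ, hsπ, hrd, hsd, hrs⟩ := h1
  have hrn := le_card_of_dvd hr hrd
  have hsn := le_card_of_dvd hs hsd
  have h3 : 3 ≤ Fintype.card α := by
    have := hr.two_le
    have := hs.two_le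
    omega
  have key : ∀ H : Subgroup (alternatingGroup α), IsPiHall π H → ∃ a, HallCase π (Fintype.card α) a ∧
      ∃ f : α → Bool, Nat.card {x // f x = true} = a ∧
        H = (partStab f).subgroupOf (alternatingGroup α) := fun H hH => by
    obtain ⟨a, ha, f, hf, hle⟩ :=
      (hall_main hH.map_subtype hr hs hrs hrπ hsπ hrn hsn).resolve_left h2
    exact ⟨a, ha, f, hf, hH.eq_of_le ((ha.partStab h3 hf).1.card_subgroupOf _)
      (map_le_iff_le_comap.1 hle)⟩
  refine ⟨h, fun H K hH hK => ?_⟩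
  obtain ⟨a, ha, f, hf, rfl⟩ := key H hH
  obtain ⟨b, hb, f', hf', rfl⟩ := key K hK
  obtain ⟨g, hg, h4⟩ := exists_conj_partStab (f := f) (f' := f') (by rw [hf, hf', ha.unique hb])
    (ha.partStab h3 hf).2
  exact ⟨⟨g, hg⟩, by rw [h4, map_conj_subgroupOf]⟩

theorem isCPiGroup_perm (h : IsEPiGroup π (alternatingGroup α)) : IsCPiGroup π (Perm α) := by
  haveI : Group.IsSolvable (Perm α ⧸ alternatingGroup α) :=
    Group.isSolvable_of_isSolvable_injective (QuotientGroup.kerLift_injective (sign : Perm α →* ℤˣ))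
  exact S4310.result π (alternatingGroup α) (isCPiGroup_alternatingGroup h) isCPiGroup_of_isSolvable

theorem isEPiGroup_alternatingGroup (h : IsEPiGroup π (Perm α)) :
    IsEPiGroup π (alternatingGroup α) :=
  let ⟨H, hH⟩ := h
  ⟨_, hH.subgroupOf_normal _⟩

end Cfsg.Agent.Sym
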